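import Cfsg.Agent.Lib.Schur.OrthPlus.Torus

/-!
# The centre of the Steinberg group of type `D_n`

The centre consists of the torus elements acting as a scalar `ε`, `ε ^ 2 = 1`; it is the image of the
pairs `(ε, s)` with `ε ^ 2 = 1` and `s ^ 2 = ε ^ n`.
-/

set_option autoImplicit false

namespace Cfsg.Agent.Schur.OrthPlus

open CurtisTits CurtisTits.DType SL2Presentation
open Cfsg.Agent.MaxCl

universe u

variable {F : Type u} [Field F] {n : ℕ}

/-- The unitriangular group of the flag. -/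
def UT1 : Subgroup (GL (SIdx n) F) where
  carrier := {g | ∀ k x, x ∈ DCover.flag (k + 1) →
    act g x - x ∈ DCover.flag k ∧ act g⁻¹ x - x ∈ DCover.flag k}
  one_mem' := fun k x _ => by simp [act_one, DCover.flag]
  mul_mem' := fun {a b} ha hb k x hx => by
    have key : ∀ {a b : GL (SIdx n) F}, (∀ k x, x ∈ DCover.flag (k + 1) → act a x - x ∈ DCover.flag k) →
        (∀ k x, x ∈ DCover.flag (k + 1) → act b x - x ∈ DCover.flag k) →
        act (a * b) x - x ∈ DCover.flag k := by
      intro a b ha hb p hp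
      have h1 := hb k x hx
      have h2 := ha k x hx p hp
      have h3 : act b x - x ∈ DCover.flag (k + 1) := fun q hq => h1 q (by omega)
      have h4 := ha k _ h3 p hp
      have h5 := h1 p hp
      rw [map_sub] at h4
      simp only [Pi.sub_apply] at h2 h4 h5 ⊢
      rw [act_mul]
      linear_combination h4 + h2 + h5
    refine ⟨key (fun k x h => (ha k x h).1) fun k x h => (hb k x h).1, ?_⟩
    rw [mul_inv_rev]
    exact key (fun k x h => (hb k x h).2) fun k x h => (ha k x h).2
  inv_mem' := fun {a} ha k x hx => ⟨(ha k x hx).2, by rw [inv_inv]; exact (ha k x hx).1⟩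

theorem E_mem_UT1 {a b : SIdx n} (h : lv a ≠ lv b) (hab : pos a < pos b) (t : F) :
    DModel.E a b t ∈ UT1 (n := n) (F := F) := by
  have key : ∀ (t : F) k x, x ∈ DCover.flag (k + 1) → act (DModel.E a b t) x - x ∈ DCover.flag k := by
    intro t k x hx p hp
    rw [Pi.sub_apply, DModel.act_E h]
    have := pos_ng a
    have := pos_ng b
    split_ifs with h1 h2 h2
    · exact absurd (h1.symm.trans h2) (lv_ne.1 h).2
    · rw [hx b (by rw [h1] at hp; omega)]; ring
    · rw [hx (ng a) (by rw [h2] at hp; omega)]; ring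
    · ring
  intro k x hx
  exact ⟨key t k x hx, by rw [← DModel.E_neg h]; exact key (-t) k x hx⟩

theorem eq_one_of_mono_UT1 {g : GL (SIdx n) F} {c : SIdx n → F} (hg : DModel.Mono g 1 c)
    (hu : g ∈ UT1 (n := n) (F := F)) : g = 1 := by
  have hc : ∀ p, c p = 1 := fun p => by
    have hx : (DModel.ev p : SIdx n → F) ∈ DCover.flag (pos p + 1) := fun q hq => by
      rw [DModel.ev_apply, if_neg fun e => by subst e; omega]
    have h1 := (hu _ _ hx).1 p le_rfl
    have h2 := hg (DModel.ev p) p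
    rw [Equiv.Perm.one_apply] at h2
    rw [Pi.sub_apply, h2, DModel.ev_apply, if_pos rfl] at h1
    linear_combination h1
  refine DModel.E_ext fun x p => ?_
  have := hg x p
  rw [Equiv.Perm.one_apply] at this
  rw [this, hc, one_mul, act_one]

theorem mem_UT_of_mono {g : GL (SIdx n) F} {c : SIdx n → F} (hg : DModel.Mono g 1 c) (hc : ∀ p, c p ≠ 0) :
    g ∈ DCover.UT (n := n) (F := F) := by
  intro k x hx
  refine ⟨fun p hp => ?_, fun p hp => ?_⟩
  · have := hg x p
    rw [Equiv.Perm.one_apply] at this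
    rw [this, hx p hp, mul_zero]
  · have h := hg (act g⁻¹ x) p
    rw [Equiv.Perm.one_apply, act_act_inv, hx p hp] at h
    exact (mul_eq_zero.1 h.symm).resolve_left (hc p)

theorem mem_B_of_UT (hn : 3 ≤ n) {g : StD F n} (hg : theta F n g ∈ DCover.UT (n := n) (F := F)) :
    g ∈ ((cover F n).data hn).B := by
  classical
  set C := cover F n with hC
  have ax := C.axioms hn
  have hgrp : (C.data hn).grp = ⊤ := by
    rw [eq_top_iff, ← closure_x, Subgroup.closure_le]
    rintro _ ⟨a, b, h, t, rfl⟩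
    exact C.x_le_grp hn h t
  obtain ⟨l, hl⟩ := RootBN.Data.exists_cell ax (hgrp.symm ▸ Subgroup.mem_top g)
  by_contra hgB
  have hne : (C.data hn).wl l ≠ 1 := fun e => hgB ((RootBN.Data.mem_cell_one ax).1 (e ▸ hl))
  obtain ⟨i, hi⟩ := RootBN.Data.exists_simp_neg ax l hne
  obtain ⟨b, hb, c, hc, e⟩ :=
    (RootBN.Data.mem_cell_iff ax (RootBN.Data.nw_mem_N l) (RootBN.Data.acts_nw ax l)).1 hl
  set w := (C.data hn).nw l
  have hUT : ∀ {y}, y ∈ (C.data hn).B → C.θ y ∈ DCover.UT := fun hy => C.map_B_le hn ⟨_, hy, rfl⟩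
  have hw : C.θ w ∈ DCover.UT := by
    rw [show C.θ w = (C.θ b)⁻¹ * C.θ g * (C.θ c)⁻¹ by rw [e, map_mul, map_mul]; group]
    exact mul_mem (mul_mem (inv_mem (hUT hb)) hg) (inv_mem (hUT hc))
  set s := simpR (show 2 ≤ n by omega) i
  have hx : C.R.x s.1.1 s.1.2 1 ∈ (C.data hn).X s := ⟨1, rfl⟩
  obtain ⟨v, hv⟩ := (RootBN.Data.acts_nw ax l s _).2 hx
  have hneg : ¬ IsPos ((C.data hn).wl l s) := hi
  set r := (C.data hn).wl l s
  have hm : C.θ (C.R.x r.1.1 r.1.2 v) ∈ DCover.UT := by
    rw [hv, map_mul, map_mul, map_inv]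
    exact mul_mem (mul_mem hw (hUT (RootBN.Data.X_simp_le_B ax i hx))) (inv_mem hw)
  rw [C.map_x _ _ r.ne] at hm
  have hlt : pos r.1.2 < pos r.1.1 := by
    rcases Nat.lt_or_ge (pos r.1.1) (pos r.1.2) with h | h
    · exact absurd ((isPos_iff r).2 h) hneg
    · exact lt_of_le_of_ne h fun e => (lv_ne.1 r.ne).1 (pos_inj e).symm
  rw [DCover.E_not_UT r.ne hlt hm, C.R.x_zero r.ne, eq_comm, conj_eq_one_iff, ← C.R.x_zero s.ne] at hv
  exact one_ne_zero (C.x_inj s.ne (congrArg C.θ hv))

variable [Finite F]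

theorem H_le_range (hn : 3 ≤ n) : (cover F n).H ≤ (tau (F := F) hn).range := by
  rw [DCover.H, Subgroup.closure_le]
  rintro _ ⟨r, t, u, ht, hu, rfl⟩
  have e : (stRels F n).w r.1.1 r.1.2 t * (stRels F n).w r.1.1 r.1.2 u =
      h r.1.1 r.1.2 (Units.mk0 t ht) * (h r.1.1 r.1.2 (Units.mk0 (-u) (neg_ne_zero.2 hu)))⁻¹ := by
    rw [h, h, Units.val_mk0, Units.val_mk0, (stRels F n).w_neg r.ne u]
    group
  show (stRels F n).w r.1.1 r.1.2 t * (stRels F n).w r.1.1 r.1.2 u ∈ _
  rw [e]
  exact mul_mem (h_mem_range hn r.ne _) (inv_mem (h_mem_range hn r.ne _))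

/-- Diagonal elements lie in the torus. -/
theorem mem_range_of_mono (hn : 3 ≤ n) {g : StD F n} {c : SIdx n → F} (hg : DModel.Mono (theta F n g) 1 c)
    (hc : ∀ p, c p ≠ 0) : g ∈ (tau (F := F) hn).range := by
  have hB := mem_B_of_UT hn (mem_UT_of_mono hg hc)
  obtain ⟨u, hu, k, hk, rfl⟩ := (RootBN.Data.mem_B_iff ((cover F n).axioms hn)).1 hB
  obtain ⟨v, rfl⟩ := H_le_range hn hk
  have hu1 : theta F n u ∈ UT1 (n := n) (F := F) := by
    refine (show ((cover F n).data hn).U ≤ UT1.comap (theta F n) from iSup₂_le fun r hr => ?_) hu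
    rintro _ ⟨t, rfl⟩
    rw [Subgroup.mem_comap, show theta F n ((cover F n).R.x r.1.1 r.1.2 t) = DModel.E r.1.1 r.1.2 t from
      theta_x r.ne t]
    exact E_mem_UT1 r.ne ((isPos_iff r).1 hr) t
  have hm : DModel.Mono (theta F n u) 1 (fun p => c p * cv hn v⁻¹ p) := by
    have := hg.mul (mono_tau hn v⁻¹)
    rw [← map_mul, map_inv, mul_inv_cancel_right, one_mul] at this
    exact this
  have h1 : theta F n u = 1 := eq_one_of_mono_UT1 hm hu1
  rw [(cover F n).U_eq_one hn hu h1, one_mul]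
  exact ⟨v, rfl⟩

omit [Finite F] in
/-- A matrix commuting with the root elements is a scalar. -/
theorem exists_scalar (hn : 3 ≤ n) {g : GL (SIdx n) F}
    (hg : ∀ a b, lv a ≠ lv b → Commute g (DModel.E a b 1)) : ∃ l : F, DModel.Mono g 1 fun _ => l := by
  have key : ∀ a b : SIdx n, lv a ≠ lv b → ∀ p, act g (DModel.ev a) p =
      (if p = a then act g (DModel.ev b) b else 0) - (if p = ng b then act g (DModel.ev b) (ng a) else 0) := by
    intro a b hab p
    have h1 : act (DModel.E a b (1 : F)) (DModel.ev b) = DModel.ev b + DModel.ev a := funext fun q => by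
      rw [DModel.act_E hab, Pi.add_apply]
      have : ng a ≠ b := fun e => (lv_ne.1 hab).2 (by rw [← e, ng_ng])
      simp only [DModel.ev_apply, if_neg this]
      split_ifs <;> ring
    have h2 := congrArg (fun h : GL (SIdx n) F => act h (DModel.ev b) p) (hg a b hab).eq
    simp only [act_mul, h1, map_add, Pi.add_apply] at h2
    rw [DModel.act_E hab] at h2
    simp only [one_mul] at h2
    linear_combination h2
  have hoff : ∀ a p : SIdx n, p ≠ a → act g (DModel.ev a) p = 0 := fun a p hp => by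
    obtain ⟨b, hab, -⟩ := RelsD.exists_third hn a a
    obtain ⟨c, hac, hbc⟩ := RelsD.exists_third hn a b
    by_cases hpb : p = ng b
    · have hpc : p ≠ ng c := fun e => hbc (congrArg lv (ng_inj.1 (hpb.symm.trans e)))
      rw [key a c hac, if_neg hp, if_neg hpc, sub_zero]
    · rw [key a b hab, if_neg hp, if_neg hpb, sub_zero]
  have heq : ∀ a b : SIdx n, lv a ≠ lv b → act g (DModel.ev a) a = act g (DModel.ev b) b := fun a b hab => by
    rw [key a b hab, if_pos rfl, if_neg (lv_ne.1 hab).2, sub_zero]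
  let i : SIdx n := Sum.inl ⟨0, by omega⟩
  refine ⟨act g (DModel.ev i) i, fun x p => ?_⟩
  have hp : act g (DModel.ev p) p = act g (DModel.ev i) i := by
    obtain ⟨c, hpc, hic⟩ := RelsD.exists_third hn p i
    rw [heq p c hpc, ← heq i c hic]
  have hx : x = ∑ q, x q • (DModel.ev q : SIdx n → F) := funext fun r => by
    simp [DModel.ev_apply]
  rw [Equiv.Perm.one_apply]
  conv_lhs => rw [hx]
  rw [map_sum, Finset.sum_apply, Finset.sum_eq_single p]
  · rw [map_smul, Pi.smul_apply, smul_eq_mul, hp]; ring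
  · intro q _ hq
    rw [map_smul, Pi.smul_apply, hoff q p (Ne.symm hq), smul_zero]
  · simp

/-- The parameters of the centre. -/
def P (F : Type u) [Field F] (n : ℕ) : Subgroup (Fˣ × Fˣ) where
  carrier := {p | p.1 ^ 2 = 1 ∧ p.2 ^ 2 = p.1 ^ n}
  one_mem' := by simp
  mul_mem' := fun {a b} ha hb => by
    obtain ⟨a1, a2⟩ := ha
    obtain ⟨b1, b2⟩ := hb
    exact ⟨by rw [Prod.fst_mul, mul_pow, a1, b1, one_mul], by rw [Prod.fst_mul, Prod.snd_mul, mul_pow, a2, b2, mul_pow]⟩
  inv_mem' := fun {a} ha => by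
    obtain ⟨a1, a2⟩ := ha
    exact ⟨by rw [Prod.fst_inv, inv_pow, a1, inv_one], by rw [Prod.fst_inv, Prod.snd_inv, inv_pow, a2, inv_pow]⟩

omit [Finite F]

/-- The torus coordinates of a central element. -/
def vOf (hn : 3 ≤ n) : (Fˣ × Fˣ) →* (Fin n → Fˣ) where
  toFun p i := (if i = i0 hn then 1 else p.1) * if i = i0 hn ∨ i = i1 hn then p.2 else 1
  map_one' := funext fun i => by simp
  map_mul' p q := funext fun i => by
    simp only [Pi.mul_apply, Prod.fst_mul, Prod.snd_mul]
    split_ifs <;> simp [mul_comm, mul_left_comm, mul_assoc]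

theorem prod_vOf (hn : 3 ≤ n) (e s : Fˣ) : ∏ i, vOf hn (e, s) i = e ^ n * e⁻¹ * s ^ 2 := by
  show ∏ i, (if i = i0 hn then 1 else e) * (if i = i0 hn ∨ i = i1 hn then s else 1) = _
  rw [Finset.prod_mul_distrib]
  have h1 : (∏ i, if i = i0 hn then (1 : Fˣ) else e) * e = e ^ n := by
    have : ∀ i, (if i = i0 hn then (1 : Fˣ) else e) * (if i = i0 hn then e else 1) = e := fun i => by
      split_ifs <;> simp
    calc _ = (∏ i, if i = i0 hn then (1 : Fˣ) else e) * ∏ i, if i = i0 hn then e else 1 := by simp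
      _ = _ := by rw [← Finset.prod_mul_distrib, Finset.prod_congr rfl fun i _ => this i]; simp
  have h2 : (∏ i, if i = i0 hn ∨ i = i1 hn then s else 1) = s ^ 2 := by
    rw [Finset.prod_ite, Finset.prod_const, Finset.prod_const_one, mul_one]
    congr 1
    rw [show (Finset.univ.filter fun i => i = i0 hn ∨ i = i1 hn) = {i0 hn, i1 hn} by ext; simp,
      Finset.card_pair (i0_ne_i1 hn)]
  rw [h2, eq_mul_inv_of_mul_eq h1]

theorem cpos_vOf (hn : 3 ≤ n) {e s : Fˣ} (h : (e, s) ∈ P F n) (i : Fin n) : cpos hn (vOf hn (e, s)) i = e := by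
  obtain ⟨he, hs⟩ := h
  simp only at he hs
  have hinv : e⁻¹ = e := inv_eq_of_mul_eq_one_right (by rw [← pow_two, he])
  by_cases h0 : i = i0 hn
  · rw [cpos, if_pos h0, prod_vOf hn, hs, mul_right_comm, ← pow_add, ← two_mul, pow_mul, he, one_pow, one_mul, hinv]
  · rw [cpos, if_neg h0]
    show ((if i = i0 hn then 1 else e) * (if i = i0 hn ∨ i = i1 hn then s else 1))⁻¹ *
      (if i = i1 hn then (if i0 hn = i0 hn then 1 else e) * (if i0 hn = i0 hn ∨ i0 hn = i1 hn then s else 1) else 1) = e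
    by_cases h1 : i = i1 hn
    · subst h1
      simp [h0, hinv, mul_inv_rev, mul_comm]
    · simp [h0, h1, hinv]

variable [Finite F]

/-- The parametrisation of the centre. -/
noncomputable def phi (hn : 3 ≤ n) : P F n →* StD F n := ((tau hn).comp (vOf hn)).comp (P F n).subtype

theorem mono_phi (hn : 3 ≤ n) (p : P F n) :
    DModel.Mono (theta F n (phi hn p)) 1 fun _ => ((p : Fˣ × Fˣ).1 : F) := by
  intro x q
  obtain ⟨⟨e, s⟩, hp⟩ := p
  refine (mono_tau hn (vOf hn (e, s)) x q).trans ?_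
  congr 1
  have hinv : e⁻¹ = e := inv_eq_of_mul_eq_one_right (by rw [← pow_two, hp.1])
  rcases q with i | i <;> simp only [cv, Sum.elim_inl, Sum.elim_inr, cpos_vOf hn hp, hinv]

theorem phi_mem_center (hn : 3 ≤ n) (p : P F n) : phi hn p ∈ Subgroup.center (StD F n) := by
  have hcc : ∀ _ : SIdx n, ((p : Fˣ × Fˣ).1 : F) * ((p : Fˣ × Fˣ).1 : F) = 1 := fun _ => by
    rw [← Units.val_mul, ← pow_two, p.2.1, Units.val_one]
  rw [Subgroup.mem_center_iff]
  intro z
  have hle : (⊤ : Subgroup (StD F n)) ≤ Subgroup.centralizer {phi hn p} := by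
    rw [← closure_x, Subgroup.closure_le]
    rintro _ ⟨a, b, h, t, rfl⟩
    rw [SetLike.mem_coe, Subgroup.mem_centralizer_singleton_iff]
    have := conj_x hn (mono_phi hn p) hcc h t
    rw [div_self (Units.ne_zero _), one_mul] at this
    exact (mul_inv_eq_iff_eq_mul.1 this).symm
  exact Subgroup.mem_centralizer_singleton_iff.1 (hle (Subgroup.mem_top z))

/-- An element commuting with the root elements in the model is central, of the given form. -/
theorem mem_range_phi (hn : 3 ≤ n) {g : StD F n}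
    (hg : ∀ a b, lv a ≠ lv b → Commute (theta F n g) (DModel.E a b 1)) : g ∈ (phi (F := F) hn).range := by
  obtain ⟨l, hl⟩ := exists_scalar hn hg
  have hl0 : l ≠ 0 := fun e => by
    let i : SIdx n := Sum.inl ⟨0, by omega⟩
    have h := hl (act (theta F n g)⁻¹ (DModel.ev i)) i
    rw [Equiv.Perm.one_apply, act_act_inv, DModel.ev_apply, if_pos rfl, e, zero_mul] at h
    exact one_ne_zero h
  obtain ⟨v, rfl⟩ := mem_range_of_mono hn hl fun _ => hl0
  have hcv : ∀ q, cv hn v q = l := fun q => by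
    have h1 := mono_tau hn v (DModel.ev q) q
    have h2 := hl (DModel.ev q) q
    rw [h1, DModel.ev_apply, if_pos rfl, mul_one, mul_one] at h2
    exact h2
  set e := cpos hn v (i0 hn)
  have hpos : ∀ i, cpos hn v i = e := fun i => Units.ext (by
    have := (hcv (Sum.inl i)).trans (hcv (Sum.inl (i0 hn))).symm
    simpa [cv] using this)
  have hinv : e⁻¹ = e := Units.ext (by
    have := (hcv (Sum.inr (i0 hn))).trans (hcv (Sum.inl (i0 hn))).symm
    simpa [cv] using this)
  have he : e ^ 2 = 1 := by rw [pow_two]; nth_rewrite 1 [← hinv]; exact inv_mul_cancel e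
  have hv : v = vOf hn (e, v (i0 hn)) := funext fun i => by
    show v i = (if i = i0 hn then 1 else e) * if i = i0 hn ∨ i = i1 hn then v (i0 hn) else 1
    by_cases h0 : i = i0 hn
    · subst h0; simp
    have h := hpos i
    rw [cpos, if_neg h0, ← mul_right_inj (v i), mul_inv_cancel_left] at h
    by_cases h1 : i = i1 hn
    · subst h1
      rw [if_pos rfl] at h
      rw [if_neg h0, if_pos (Or.inr rfl), h, mul_comm (v (i1 hn)), ← mul_assoc, ← pow_two, he, one_mul]
    · rw [if_neg h1] at h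
      rw [if_neg h0, if_neg (fun o => o.elim h0 h1), mul_one]
      rw [← hinv]
      exact eq_inv_of_mul_eq_one_left h.symm
  have hs : v (i0 hn) ^ 2 = e ^ n := by
    have h := hpos (i0 hn)
    rw [cpos, if_pos rfl, hv, prod_vOf hn] at h
    rw [mul_comm (e ^ n * e⁻¹), hinv, ← mul_assoc, mul_eq_right] at h
    rw [eq_inv_of_mul_eq_one_left h, ← inv_pow, hinv]
  refine ⟨⟨(e, v (i0 hn)), he, hs⟩, ?_⟩
  show tau hn (vOf hn (e, v (i0 hn))) = tau hn v
  rw [← hv]

theorem range_phi (hn : 3 ≤ n) : (phi (F := F) hn).range = Subgroup.center (StD F n) := by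
  refine le_antisymm ?_ fun g hg => mem_range_phi hn fun a b h => ?_
  · rintro _ ⟨p, rfl⟩
    exact phi_mem_center hn p
  · rw [← theta_x h]
    exact ((show Commute g ((stRels F n).x a b 1) from (Subgroup.mem_center_iff.1 hg _).symm)).map (theta F n)

/-- The element that must not vanish. -/
noncomputable def z0 (hn : 3 ≤ n) : StD F n :=
  h (Sum.inl (i0 hn)) (Sum.inr (i1 hn)) (-1) * h (Sum.inl (i0 hn)) (Sum.inl (i1 hn)) (-1)

theorem phi_injective (hn : 3 ≤ n) (hz : (2 : F) ≠ 0 → (z0 hn : StD F n) ≠ 1) :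
    Function.Injective (phi (F := F) hn) := by
  rw [injective_iff_map_eq_one]
  rintro ⟨⟨e, s⟩, he, hs⟩ h
  have hm := mono_phi hn ⟨(e, s), he, hs⟩
  rw [h, map_one] at hm
  have he1 : e = 1 := Units.ext (by
    have := hm (DModel.ev (Sum.inl (i0 hn))) (Sum.inl (i0 hn))
    simpa [act_one, DModel.ev_apply] using this.symm)
  subst he1
  simp only [one_pow] at hs
  have hs' : (s : F) ^ 2 = 1 := by rw [← Units.val_pow_eq_pow_val, hs, Units.val_one]
  rcases sq_eq_one_iff.1 hs' with h1 | h1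
  · exact Subtype.ext (Prod.ext rfl (Units.ext h1))
  by_cases h2 : (2 : F) = 0
  · refine Subtype.ext (Prod.ext rfl (Units.ext ?_))
    rw [h1]
    show -1 = ((1 : Fˣ) : F)
    rw [Units.val_one, neg_eq_iff_add_eq_zero, ← h2]
    norm_num
  exfalso
  obtain rfl : s = -1 := Units.ext (by rw [h1, Units.val_neg, Units.val_one])
  refine hz h2 (Eq.trans ?_ h)
  have hv : vOf hn ((1 : Fˣ), (-1 : Fˣ)) = Pi.mulSingle (i0 hn) (-1) * Pi.mulSingle (i1 hn) (-1) := funext fun i => by
    show (if i = i0 hn then 1 else 1) * (if i = i0 hn ∨ i = i1 hn then (-1 : Fˣ) else 1) = _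
    have h01 := i0_ne_i1 hn
    by_cases a0 : i = i0 hn
    · subst a0; simp [h01]
    by_cases a1 : i = i1 hn
    · subst a1; simp [Ne.symm h01]
    simp [a0, a1]
  show z0 hn = tau hn (vOf hn ((1 : Fˣ), (-1 : Fˣ)))
  rw [hv, map_mul, tau_single, tau_single, rb, rb, if_pos rfl, if_neg (i0_ne_i1 hn).symm]
  rfl

end Cfsg.Agent.Schur.OrthPlus
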