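import Cfsg.Agent.Lib.Schur.OrthPlus.Lift

/-!
# Lifts of `x a b t` and `x a (-b) u` commute

This completes the relations of type `D_n` among the canonical lifts.
-/

set_option autoImplicit false

namespace Cfsg.Agent.Schur.OrthPlus

open CurtisTits CurtisTits.DType SL2Presentation
open scoped commutatorElement

universe u

namespace Setup

variable {F : Type u} [Field F] [Finite F] {n : ℕ} {G E : Type u} [Group G] [Group E] (D : Setup F n G E)

/-- The defect. -/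
noncomputable def chi (a b : SIdx n) (t s : F) : E := ⁅D.L a b t, D.L a (ng b) s⁆

theorem chi_central {a b : SIdx n} (h : lv a ≠ lv b) (t s : F) : D.chi a b t s ∈ Subgroup.center E := by
  refine D.cent ?_
  rw [MonoidHom.mem_ker, chi, map_commutatorElement, D.p_L h, D.p_L (by rwa [lv_ng]),
    commutatorElement_eq_one_iff_commute]
  exact D.R.comm2 a b h t s

theorem chi_add_right {a b : SIdx n} (h : lv a ≠ lv b) (t s s' : F) :
    D.chi a b t (s + s') = D.chi a b t s * D.chi a b t s' := by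
  rw [chi, D.L_add (by rwa [lv_ng]), SLn.comm_mul_of_central (D.chi_central h t s')]
  rfl

theorem chi_swap {a b : SIdx n} (t s : F) : D.chi a (ng b) s t = (D.chi a b t s)⁻¹ := by
  rw [chi, chi, ng_ng, commutatorElement_inv]

theorem chi_move {a b c : SIdx n} (h1 : lv a ≠ lv b) (h2 : lv b ≠ lv c) (h3 : lv a ≠ lv c) (t v w : F) :
    D.chi a b t (v * w) = D.chi a c v (-(t * w)) := by
  have h1' : lv a ≠ lv (ng b) := by rwa [lv_ng]
  have h3' : lv a ≠ lv (ng c) := by rwa [lv_ng]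
  have hcb : lv c ≠ lv (ng b) := by rw [lv_ng]; exact h2.symm
  have hbc : lv b ≠ lv (ng c) := by rwa [lv_ng]
  set A := D.L a b t with hA
  set X := D.L a c v with hX
  set Y := D.L c (ng b) w with hY
  set B := D.L a (ng b) (v * w) with hB
  set z := D.L a (ng c) (-(t * w)) with hz
  have eB : ⁅X, Y⁆ = B := D.L_comm_chain h3 hcb h1' v w
  have eY : Y = D.L b (ng c) (-w) := by
    have := D.L_symm (a := b) (b := ng c) hbc w
    rwa [ng_ng] at this
  have ez : ⁅A, Y⁆ = z := by rw [eY, hA, D.L_comm_chain h1 hbc h3', mul_neg]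
  have n1 := lv_ne.1 h1
  have n2 := lv_ne.1 h2
  have n3 := lv_ne.1 h3
  have cAX : A * X = X * A :=
    (D.L_comm h1 h3 n3.1 (Ne.symm n1.1) (ng_ne a).symm (fun e => n2.2 e) t v).eq
  have czB : z * B = B * z := by
    refine (D.L_comm h3' h1' n1.2 (fun e => n3.2 e.symm) (ng_ne a).symm (fun e => ?_) _ _).eq
    rw [ng_ng] at e
    exact n2.2 e.symm
  have e1 : A * B * A⁻¹ = ⁅X, z * Y⁆ := by
    rw [← eB, commutatorElement_def, commutatorElement_def]
    calc A * (X * Y * X⁻¹ * Y⁻¹) * A⁻¹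
        = A * X * Y * (A * X)⁻¹ * (A * Y⁻¹ * A⁻¹) := by group
      _ = X * A * Y * (X * A)⁻¹ * (A * Y⁻¹ * A⁻¹) := by rw [cAX]
      _ = X * (A * Y * A⁻¹ * Y⁻¹ * Y) * X⁻¹ * (A * Y * A⁻¹ * Y⁻¹ * Y)⁻¹ := by group
      _ = X * (z * Y) * X⁻¹ * (z * Y)⁻¹ := by rw [← commutatorElement_def A Y, ez]
  have e2 : ⁅X, z * Y⁆ = ⁅X, z⁆ * B :=
    calc ⁅X, z * Y⁆ = ⁅X, z⁆ * (z * ⁅X, Y⁆ * z⁻¹) := by simp only [commutatorElement_def]; group
      _ = ⁅X, z⁆ * B := by rw [eB, czB, mul_inv_cancel_right]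
  have e3 : A * B * A⁻¹ = D.chi a b t (v * w) * B := by
    rw [chi, ← hA, ← hB, commutatorElement_def]; group
  exact mul_right_cancel (e3.symm.trans (e1.trans e2))

theorem chi_sq {a b c : SIdx n} (h1 : lv a ≠ lv b) (h2 : lv b ≠ lv c) (h3 : lv a ≠ lv c) (x : F) :
    D.chi a b 1 (x + x) = 1 := by
  have e1 := D.chi_move h1 h2 h3 1 1 x
  have e2 := D.chi_move h1 (c := ng c) (by rwa [lv_ng]) (by rwa [lv_ng]) 1 1 x
  have e3 := D.chi_move h3 h2.symm h1 (-x) 1 1
  rw [one_mul] at e1 e2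
  rw [mul_one, mul_one, neg_neg] at e3
  rw [D.chi_swap (-x) 1, e3] at e2
  rw [D.chi_add_right h1]
  nth_rewrite 2 [e2]
  exact mul_inv_cancel _

theorem chi_one_two {a b c : SIdx n} (h1 : lv a ≠ lv b) (h2 : lv b ≠ lv c) (h3 : lv a ≠ lv c)
    (hch : (2 : F) = 0) (s : F) : D.chi a c 1 s = 1 := by
  have hneg : ∀ x : F, -x = x := fun x => by
    rw [neg_eq_iff_add_eq_zero, ← two_mul, hch, zero_mul]
  have hL2 : ∀ {p q : SIdx n}, lv p ≠ lv q → ∀ x, D.L p q x * D.L p q x = 1 := fun h x => by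
    rw [← D.L_add h, ← two_mul, hch, zero_mul, D.L_zero h]
  have h1' : lv a ≠ lv (ng b) := by rwa [lv_ng]
  have h2' : lv b ≠ lv (ng c) := by rwa [lv_ng]
  have h3' : lv a ≠ lv (ng c) := by rwa [lv_ng]
  have n1 := lv_ne.1 h1
  have n2 := lv_ne.1 h2
  have n3 := lv_ne.1 h3
  set A := D.L a b 1 with hA
  set Y1 := D.L b c 1 with hY1
  set Y2 := D.L b (ng c) s with hY2
  set Z1 := D.L a c 1 with hZ1
  set Z2 := D.L a (ng c) s with hZ2
  set X := D.L a (ng b) s with hX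
  have a1 : A * Y1 = Z1 * Y1 * A := by
    have := D.L_chain h1 h2 h3 1 1
    rwa [mul_one] at this
  have a2 : A * Y2 = Z2 * Y2 * A := by
    have := D.L_chain h1 h2' h3' 1 s
    rwa [one_mul] at this
  have hXs : D.L b (ng a) s = X := by
    have := D.L_symm (a := a) (b := ng b) h1' s
    rw [ng_ng, hneg] at this
    exact this
  have hba : lv b ≠ lv (ng a) := by rw [lv_ng]; exact h1.symm
  have b1 : Y1 * Z2 = X * Z2 * Y1 := by
    have e : Z2 = D.L c (ng a) s := by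
      have := D.L_symm (a := a) (b := ng c) h3' s
      rw [ng_ng, hneg] at this
      exact this.symm
    have := D.L_chain h2 (c := ng a) (by rw [lv_ng]; exact h3.symm) hba 1 s
    rw [one_mul, hXs, ← e] at this
    exact this
  have b2 : Y2 * Z1 = X * Z1 * Y2 := by
    have e : Z1 = D.L (ng c) (ng a) 1 := by
      rw [D.L_symm h3, hneg]
    have := D.L_chain h2' (c := ng a) (by rw [lv_ng, lv_ng]; exact h3.symm) hba s 1
    rw [mul_one, hXs, ← e] at this
    exact this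
  have c1 : Commute X Z1 := D.L_comm h1' h3 n3.1 (fun e => n1.2 e.symm) (ng_ne a).symm
    (fun e => n2.1 (ng_inj.1 e)) s 1
  have c2 : Commute X Z2 := D.L_comm h1' h3' n3.2 (fun e => n1.2 e.symm) (ng_ne a).symm
    (fun e => n2.2 (by rw [ng_inj.1 e])) s s
  have c3 : Commute Y1 X := D.L_comm h2 h1' (ng_ne b).symm (Ne.symm n3.1) (fun e => n1.2 (by rw [e, ng_ng]))
    (fun e => n2.1 (by rw [e, ng_ng])) 1 s
  have c4 : Commute Y2 X := D.L_comm h2' h1' (ng_ne b).symm (fun e => n3.2 e.symm) (fun e => n1.2 (by rw [e, ng_ng]))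
    (fun e => n2.2 (by rw [ng_ng] at e; exact e.symm)) s s
  have c5 : Commute Y1 Z1 := D.L_comm h2 h3 n2.1 (Ne.symm n3.1) (fun e => n1.2 (by rw [e, ng_ng]))
    (ng_ne c).symm 1 1
  have c6 : Commute Y2 Z2 := D.L_comm h2' h3' n2.2 (fun e => n3.2 e.symm) (fun e => n1.2 (by rw [e, ng_ng]))
    (ng_ne _).symm s s
  set Y := Y1 * Y2 with hY
  set C := Z1 * X * Z2 with hC
  have hAY : A * Y * A⁻¹ = C * Y := by
    rw [mul_inv_eq_iff_eq_mul, hY, hC, ← mul_assoc A, a1, mul_assoc (Z1 * Y1) A, a2,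
      show Z1 * Y1 * (Z2 * Y2 * A) = Z1 * (Y1 * Z2) * Y2 * A by group, b1]
    group
  have hYC : Y * C = C * Y :=
    calc Y * C = Y1 * (Y2 * Z1) * X * Z2 := by rw [hY, hC]; group
      _ = Y1 * X * Z1 * (Y2 * X) * Z2 := by rw [b2]; group
      _ = X * Y1 * Z1 * X * (Y2 * Z2) := by rw [c3.eq, c4.eq]; group
      _ = X * (Y1 * Z1) * X * Z2 * Y2 := by rw [c6.eq]; group
      _ = X * Z1 * (Y1 * X) * Z2 * Y2 := by rw [c5.eq]; group
      _ = X * Z1 * X * (Y1 * Z2) * Y2 := by rw [c3.eq]; group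
      _ = X * Z1 * (X * X) * Z2 * Y1 * Y2 := by rw [b1]; group
      _ = C * Y := by rw [hX, hL2 h1', mul_one, ← hX, c1.eq, hY, hC]; group
  have hYY : Y * Y ∈ Subgroup.center E := by
    refine D.cent ?_
    rw [MonoidHom.mem_ker, map_mul, hY, map_mul, hY1, hY2, D.p_L h2, D.p_L h2']
    have e := (D.R.comm2 b c h2 1 s).eq
    have p1 : D.R.x b c 1 * D.R.x b c 1 = 1 := by rw [← D.p_L h2, ← map_mul, hL2 h2, map_one]
    have p2 : D.R.x b (ng c) s * D.R.x b (ng c) s = 1 := by rw [← D.p_L h2', ← map_mul, hL2 h2', map_one]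
    calc _ = D.R.x b c 1 * (D.R.x b (ng c) s * D.R.x b c 1) * D.R.x b (ng c) s := by group
      _ = (D.R.x b c 1 * D.R.x b c 1) * (D.R.x b (ng c) s * D.R.x b (ng c) s) := by rw [← e]; group
      _ = 1 := by rw [p1, p2, one_mul]
  have hCC : C * C = 1 := by
    have h := Subgroup.mem_center_iff.1 hYY A
    have : A * Y * A⁻¹ * (A * Y * A⁻¹) = Y * Y := by
      rw [show A * Y * A⁻¹ * (A * Y * A⁻¹) = A * (Y * Y) * A⁻¹ by group, h, mul_inv_cancel_right]
    rw [hAY, show C * Y * (C * Y) = C * (Y * C) * Y by group, hYC,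
      show C * (C * Y) * Y = C * C * (Y * Y) by group] at this
    exact mul_eq_right.1 this
  have hZ : Z1 * Z2 * (Z1 * Z2) = 1 :=
    calc Z1 * Z2 * (Z1 * Z2) = Z1 * (X * X) * Z2 * Z1 * Z2 := by rw [hX, hL2 h1']; group
      _ = Z1 * X * (X * Z2) * Z1 * Z2 := by group
      _ = Z1 * X * Z2 * (X * Z1) * Z2 := by rw [c2.eq]; group
      _ = C * C := by rw [c1.eq, hC]; group
      _ = 1 := hCC
  rw [chi, ← hZ1, ← hZ2, commutatorElement_eq_one_iff_commute]
  calc Z1 * Z2 = (Z1 * Z2)⁻¹ := eq_inv_of_mul_eq_one_left hZ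
    _ = Z2⁻¹ * Z1⁻¹ := mul_inv_rev _ _
    _ = Z2 * Z1 := by rw [inv_eq_of_mul_eq_one_left (hL2 h3' s), inv_eq_of_mul_eq_one_left (hL2 h3 1)]

theorem chi_eq_one {a b : SIdx n} (h : lv a ≠ lv b) (t s : F) : D.chi a b t s = 1 := by
  obtain ⟨c, hac, hbc⟩ := RelsD.exists_third (by have := D.four; omega) a b
  have hm := D.chi_move h hbc hac t 1 s
  rw [one_mul] at hm
  rw [hm]
  by_cases hch : (2 : F) = 0
  · exact D.chi_one_two h hbc hac hch _
  · obtain ⟨y, hy⟩ : ∃ y : F, y + y = -(t * s) := ⟨-(t * s) / 2, by field_simp; ring⟩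
    rw [← hy]
    exact D.chi_sq hac hbc.symm h y

/-- **The canonical lifts satisfy the relations of type `D_n`.** -/
noncomputable def rels : RelsD F n E where
  x := D.L
  add _ _ h := D.L_add h
  symm _ _ h := D.L_symm h
  comm _ _ _ _ h h' h1 h2 h3 h4 := D.L_comm h h' h1 h2 h3 h4
  comm2 _ _ h t u := commutatorElement_eq_one_iff_commute.1 (D.chi_eq_one h t u)
  chain _ _ _ h1 h2 h3 := D.L_chain h1 h2 h3

end Setup

end Cfsg.Agent.Schur.OrthPlus
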