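import Cfsg.Agent.Lib.CurtisTits.Signed
import Cfsg.Agent.Lib.CurtisTits.Hom
import Cfsg.Agent.Lib.Schur.SLn

/-!
# Relations of type `D_n` lift through central extensions

In a central extension of a group with relations of type `D_n`, `n ≥ 4`, the lifts of root elements
are normalised by the frames, which are images of `SL_n`; they satisfy the relations of type `D_n`.
-/

set_option autoImplicit false

namespace Cfsg.Agent.Schur.OrthPlus

open CurtisTits CurtisTits.DType SL2Presentation
open scoped commutatorElement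

universe u

theorem Rels.commutator_eq {K : Type*} [Field K] {m : ℕ} {H : Type*} [Group H] (S : Rels K m H) {i k j : Fin m}
    (hik : i ≠ k) (hkj : k ≠ j) (hij : i ≠ j) (t u : K) : ⁅S.x i k t, S.x k j u⁆ = S.x i j (t * u) := by
  rw [commutatorElement_def, S.chain i k j hik hkj hij]
  group

/-- A frame through the given indices. -/
def frameOf {n : ℕ} (T : List (SIdx n)) (i : Fin n) : SIdx n :=
  (T.find? fun p => decide (lv p = i)).getD (Sum.inl i)

theorem lv_frameOf {n : ℕ} (T : List (SIdx n)) (i : Fin n) : lv (frameOf T i) = i := by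
  unfold frameOf
  cases h : T.find? fun p => decide (lv p = i) with
  | none => rfl
  | some p => simpa using List.find?_some h

theorem frameOf_eq {n : ℕ} {T : List (SIdx n)} (hT : ∀ p ∈ T, ∀ q ∈ T, p ≠ ng q) {a : SIdx n} (ha : a ∈ T) :
    frameOf T (lv a) = a := by
  unfold frameOf
  cases h : T.find? fun p => decide (lv p = lv a) with
  | none => exact absurd (List.find?_eq_none.1 h a ha) (by simp)
  | some p =>
    rcases lv_eq.1 (by simpa using List.find?_some h : lv p = lv a) with e | e
    · exact e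
    · exact absurd e (hT p (List.mem_of_find?_eq_some h) a ha)

theorem exists_fourth {n : ℕ} (hn : 4 ≤ n) (i j k : Fin n) : ∃ m, m ≠ i ∧ m ≠ j ∧ m ≠ k := by
  have : ({i, j, k} : Finset (Fin n))ᶜ.Nonempty := by
    rw [← Finset.card_pos, Finset.card_compl, Fintype.card_fin]
    have := Finset.card_le_three (a := i) (b := j) (c := k)
    omega
  obtain ⟨m, hm⟩ := this
  simp at hm
  exact ⟨m, hm.1, hm.2.1, hm.2.2⟩

/-- The data of a central extension. -/
structure Setup (F : Type u) [Field F] (n : ℕ) (G E : Type u) [Group G] [Group E] where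
  R : RelsD F n G
  p : E →* G
  surj : Function.Surjective p
  cent : p.ker ≤ Subgroup.center E
  four : 4 ≤ n
  triv : Cfsg.HasCyclicSchurMultiplier (Matrix.SpecialLinearGroup (Fin n) F) 1

namespace Setup

variable {F : Type u} [Field F] [Finite F] {n : ℕ} {G E : Type u} [Group G] [Group E] (D : Setup F n G E)

noncomputable def pre (g : G) : E := Function.surjInv D.surj g

theorem p_pre (g : G) : D.p (D.pre g) = g := Function.surjInv_eq D.surj g

theorem congr {a a' b b' : E} (ha : D.p a = D.p a') (hb : D.p b = D.p b') : ⁅a, b⁆ = ⁅a', b'⁆ :=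
  commutator_congr D.cent ha hb

theorem exists_frame (f : Fin n → SIdx n) (hf : ∀ i, lv (f i) = i) :
    ∃ S : Rels F n E, ∀ i j, i ≠ j → ∀ t, D.p (S.x i j t) = D.R.x (f i) (f j) t := by
  have := Fintype.ofFinite F
  have hinj : Function.Injective (lv ∘ f) := fun i j h => by simpa [hf] using h
  obtain ⟨π, hπ⟩ := CurtisTits.exists_hom (by have := D.four; omega) (D.R.frame f hinj)
  have hperf : _root_.commutator (Matrix.SpecialLinearGroup (Fin n) F) = ⊤ :=
    Agent.GL.SL_commutator_eq_top n (by have := D.four; omega) fun h => absurd h (by have := D.four; omega)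
  obtain ⟨ψ, hψ⟩ := exists_perfect_lift hperf D.triv D.p D.surj D.cent π
  refine ⟨CurtisTits.ofHom ψ, fun i j h t => ?_⟩
  rw [ofHom_x ψ h, ← MonoidHom.comp_apply, hψ, hπ i j h t]
  rfl

/-- The lift of `x a b t` through the third index `r`. -/
noncomputable def val (a r b : SIdx n) (t : F) : E := ⁅D.pre (D.R.x a r t), D.pre (D.R.x r b 1)⁆

theorem val_frame {f : Fin n → SIdx n} {S : Rels F n E}
    (hS : ∀ i j, i ≠ j → ∀ t, D.p (S.x i j t) = D.R.x (f i) (f j) t) {i k j : Fin n}
    (hik : i ≠ k) (hkj : k ≠ j) (hij : i ≠ j) (t : F) : D.val (f i) (f k) (f j) t = S.x i j t := by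
  rw [val, D.congr (a' := S.x i k t) (b' := S.x k j 1) (by rw [p_pre, hS _ _ hik]) (by rw [p_pre, hS _ _ hkj]),
    Rels.commutator_eq S hik hkj hij, mul_one]

theorem val_indep {a b r r' : SIdx n} (hab : lv a ≠ lv b) (har : lv a ≠ lv r) (hbr : lv b ≠ lv r)
    (har' : lv a ≠ lv r') (hbr' : lv b ≠ lv r') (hrr : lv r ≠ lv r') (t : F) :
    D.val a r b t = D.val a r' b t := by
  have hT : ∀ p ∈ [a, b, r, r'], ∀ q ∈ [a, b, r, r'], p ≠ ng q := by
    intro p hp q hq e
    have hl : lv p = lv q := by rw [e, lv_ng]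
    simp only [List.mem_cons, List.not_mem_nil, or_false] at hp hq
    rcases hp with rfl | rfl | rfl | rfl <;> rcases hq with rfl | rfl | rfl | rfl <;>
      first
      | exact ng_ne _ e.symm
      | exact hab hl
      | exact hab hl.symm
      | exact har hl
      | exact har hl.symm
      | exact hbr hl
      | exact hbr hl.symm
      | exact har' hl
      | exact har' hl.symm
      | exact hbr' hl
      | exact hbr' hl.symm
      | exact hrr hl
      | exact hrr hl.symm
  obtain ⟨S, hS⟩ := D.exists_frame (frameOf [a, b, r, r']) (lv_frameOf _)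
  have h1 := D.val_frame hS har hbr.symm hab t
  have h2 := D.val_frame hS har' hbr'.symm hab t
  simp only [frameOf_eq hT (show a ∈ [a, b, r, r'] by simp), frameOf_eq hT (show b ∈ [a, b, r, r'] by simp),
    frameOf_eq hT (show r ∈ [a, b, r, r'] by simp), frameOf_eq hT (show r' ∈ [a, b, r, r'] by simp)] at h1 h2
  rw [h1, h2]

theorem val_eq {a b r r' : SIdx n} (hab : lv a ≠ lv b) (har : lv a ≠ lv r) (hbr : lv b ≠ lv r)
    (har' : lv a ≠ lv r') (hbr' : lv b ≠ lv r') (t : F) : D.val a r b t = D.val a r' b t := by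
  by_cases hrr : lv r = lv r'
  · obtain ⟨m, hma, hmb, hmr⟩ := exists_fourth D.four (lv a) (lv b) (lv r)
    rw [D.val_indep (r' := Sum.inl m) hab har hbr hma.symm hmb.symm hmr.symm,
      D.val_indep (r := Sum.inl m) hab hma.symm hmb.symm har' hbr' (hrr ▸ hmr)]
  · exact D.val_indep hab har hbr har' hbr' hrr t

/-- The canonical lift of a root element. -/
noncomputable def L (a b : SIdx n) (t : F) : E :=
  D.val a (Sum.inl (exists_fourth D.four (lv a) (lv b) (lv b)).choose) b t

theorem L_eq_val {a b r : SIdx n} (hab : lv a ≠ lv b) (har : lv a ≠ lv r) (hbr : lv b ≠ lv r) (t : F) :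
    D.L a b t = D.val a r b t :=
  D.val_eq (r := Sum.inl _) hab (exists_fourth D.four (lv a) (lv b) (lv b)).choose_spec.1.symm
    (exists_fourth D.four (lv a) (lv b) (lv b)).choose_spec.2.1.symm har hbr t

theorem p_L {a b : SIdx n} (hab : lv a ≠ lv b) (t : F) : D.p (D.L a b t) = D.R.x a b t := by
  obtain ⟨c, hac, hbc⟩ := RelsD.exists_third (by have := D.four; omega) a b
  rw [D.L_eq_val hab hac hbc, val, map_commutatorElement, p_pre, p_pre, commutatorElement_def,
    D.R.chain a c b hac hbc.symm hab, mul_one]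
  group

theorem L_frame {f : Fin n → SIdx n} (hf : ∀ i, lv (f i) = i) {S : Rels F n E}
    (hS : ∀ i j, i ≠ j → ∀ t, D.p (S.x i j t) = D.R.x (f i) (f j) t) {i j : Fin n} (hij : i ≠ j) (t : F) :
    D.L (f i) (f j) t = S.x i j t := by
  obtain ⟨k, hki, hkj, -⟩ := exists_fourth D.four i j j
  rw [D.L_eq_val (r := f k) (by rw [hf, hf]; exact hij) (by rw [hf, hf]; exact hki.symm)
    (by rw [hf, hf]; exact hkj.symm), D.val_frame hS hki.symm hkj hij]

/-- Indices with consistent signs see a frame. -/
theorem exists_frame_of {T : List (SIdx n)} (hT : ∀ p ∈ T, ∀ q ∈ T, p ≠ ng q) :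
    ∃ S : Rels F n E, ∀ a ∈ T, ∀ b ∈ T, lv a ≠ lv b → ∀ t, D.L a b t = S.x (lv a) (lv b) t := by
  obtain ⟨S, hS⟩ := D.exists_frame (frameOf T) (lv_frameOf T)
  refine ⟨S, fun a ha b hb hab t => ?_⟩
  have := D.L_frame (lv_frameOf T) hS hab t
  rwa [frameOf_eq hT ha, frameOf_eq hT hb] at this

theorem consistent_three {a b c : SIdx n} (h1 : lv a ≠ lv b) (h2 : lv b ≠ lv c) (h3 : lv a ≠ lv c) :
    ∀ p ∈ [a, b, c], ∀ q ∈ [a, b, c], p ≠ ng q := by
  intro p hp q hq e
  have hl : lv p = lv q := by rw [e, lv_ng]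
  simp only [List.mem_cons, List.not_mem_nil, or_false] at hp hq
  rcases hp with rfl | rfl | rfl <;> rcases hq with rfl | rfl | rfl <;>
    first
    | exact ng_ne _ e.symm
    | exact h1 hl
    | exact h1 hl.symm
    | exact h2 hl
    | exact h2 hl.symm
    | exact h3 hl
    | exact h3 hl.symm

theorem L_add {a b : SIdx n} (h : lv a ≠ lv b) (t u : F) : D.L a b (t + u) = D.L a b t * D.L a b u := by
  obtain ⟨c, hac, hbc⟩ := RelsD.exists_third (by have := D.four; omega) a b
  obtain ⟨S, hS⟩ := D.exists_frame_of (consistent_three h hbc hac)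
  rw [hS a (by simp) b (by simp) h, hS a (by simp) b (by simp) h, hS a (by simp) b (by simp) h, S.add _ _ h]

theorem L_chain {a b c : SIdx n} (h1 : lv a ≠ lv b) (h2 : lv b ≠ lv c) (h3 : lv a ≠ lv c) (t u : F) :
    D.L a b t * D.L b c u = D.L a c (t * u) * D.L b c u * D.L a b t := by
  obtain ⟨S, hS⟩ := D.exists_frame_of (consistent_three h1 h2 h3)
  rw [hS a (by simp) b (by simp) h1, hS b (by simp) c (by simp) h2, hS a (by simp) c (by simp) h3]
  exact S.chain _ _ _ h1 h2 h3 t u

theorem L_comm_chain {a b c : SIdx n} (h1 : lv a ≠ lv b) (h2 : lv b ≠ lv c) (h3 : lv a ≠ lv c) (t u : F) :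
    ⁅D.L a b t, D.L b c u⁆ = D.L a c (t * u) := by
  rw [commutatorElement_def, D.L_chain h1 h2 h3]
  group

theorem L_zero {a b : SIdx n} (h : lv a ≠ lv b) : D.L a b 0 = 1 := by
  have := D.L_add h 0 0
  rw [add_zero] at this
  exact left_eq_mul.1 this

theorem L_neg {a b : SIdx n} (h : lv a ≠ lv b) (t : F) : D.L a b (-t) = (D.L a b t)⁻¹ := by
  rw [eq_inv_iff_mul_eq_one, ← D.L_add h, neg_add_cancel, D.L_zero h]

theorem L_symm {a b : SIdx n} (h : lv a ≠ lv b) (t : F) : D.L (ng b) (ng a) t = D.L a b (-t) := by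
  obtain ⟨r, har, hbr⟩ := RelsD.exists_third (by have := D.four; omega) a b
  have h' : lv (ng b) ≠ lv (ng a) := by rw [lv_ng, lv_ng]; exact h.symm
  have g1 : lv (ng b) ≠ lv (ng r) := by rw [lv_ng, lv_ng]; exact hbr
  have g2 : lv (ng a) ≠ lv (ng r) := by rw [lv_ng, lv_ng]; exact har
  rw [D.L_eq_val h' g1 g2, val, D.congr (a' := D.L r b (-t)) (b' := D.L a r (-1))
    (by rw [p_pre, p_L D hbr.symm, D.R.symm r b hbr.symm])
    (by rw [p_pre, p_L D har, D.R.symm a r har]),
    ← commutatorElement_inv, D.L_comm_chain har hbr.symm h, neg_mul_neg, one_mul, D.L_neg h]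

theorem L_comm {a b c d : SIdx n} (hab : lv a ≠ lv b) (hcd : lv c ≠ lv d) (had : a ≠ d) (hbc : b ≠ c)
    (hac : a ≠ ng c) (hbd : b ≠ ng d) (t u : F) : Commute (D.L a b t) (D.L c d u) := by
  have main : ∀ c d : SIdx n, lv c ≠ lv d → a ≠ d → b ≠ c → a ≠ ng c → b ≠ ng d → a ≠ ng d → b ≠ ng c →
      ∀ u, Commute (D.L a b t) (D.L c d u) := by
    intro c d hcd had hbc hac hbd had' hbc' u
    have hne := lv_ne.1 hab
    have hne' := lv_ne.1 hcd
    have hcon : ∀ p ∈ [a, b, c, d], ∀ q ∈ [a, b, c, d], p ≠ ng q := by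
      intro p hp q hq e
      have e' : q = ng p := by rw [e, ng_ng]
      simp only [List.mem_cons, List.not_mem_nil, or_false] at hp hq
      rcases hp with rfl | rfl | rfl | rfl <;> rcases hq with rfl | rfl | rfl | rfl <;>
        first
        | exact ng_ne _ e.symm
        | exact hne.2 e
        | exact hne.2 e'
        | exact hne'.2 e
        | exact hne'.2 e'
        | exact hac e
        | exact hac e'
        | exact hbd e
        | exact hbd e'
        | exact had' e
        | exact had' e'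
        | exact hbc' e
        | exact hbc' e'
    obtain ⟨S, hS⟩ := D.exists_frame_of hcon
    rw [hS a (by simp) b (by simp) hab, hS c (by simp) d (by simp) hcd]
    refine S.comm _ _ _ _ hab hcd (fun e => ?_) (fun e => ?_) t u
    · rcases lv_eq.1 e with e | e
      · exact had e
      · exact had' e
    · rcases lv_eq.1 e with e | e
      · exact hbc e
      · exact hbc' e
  by_cases h : a = ng d ∨ b = ng c
  · rw [← neg_neg u, ← D.L_symm hcd]
    refine main (ng d) (ng c) (by rw [lv_ng, lv_ng]; exact hcd.symm) hac hbd ?_ ?_ ?_ ?_ (-u) <;>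
      try simp only [ng_ng]
    · exact had
    · exact hbc
    · intro e
      have hne := lv_ne.1 hcd
      rcases h with h | h
      · exact hne.2 (by rw [← e, h])
      · exact (lv_ne.1 hab).2 (by rw [e, h, ng_ng])
    · intro e
      have hne := lv_ne.1 hcd
      rcases h with h | h
      · exact (lv_ne.1 hab).2 (by rw [h, e])
      · exact hne.2 (by rw [← ng_ng c, ← h, e])
  · rw [not_or] at h
    exact main c d hcd had hbc hac hbd h.1 h.2 u

end Setup

end Cfsg.Agent.Schur.OrthPlus
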