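import Cfsg.Agent.Lib.Schur.OrthPlus.Center
import Mathlib.LinearAlgebra.CliffordAlgebra.Contraction

/-!
# The spin representation of the Steinberg group of type `D_n`

The root element `x a b t` acts as `1 + t e_a e_{-b}` in the Clifford algebra; so `z0` is not trivial in odd
characteristic.
-/

set_option autoImplicit false

namespace Cfsg.Agent.Schur.OrthPlus

open CurtisTits CurtisTits.DType SL2Presentation

universe u

variable (F : Type u) [Field F] (n : ℕ)

/-- The Clifford algebra of the plus form. -/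
abbrev Cl : Type u := CliffordAlgebra (DModel.qf F n)

variable {F n}

/-- A generator. -/
noncomputable def ge (F : Type u) [Field F] (a : SIdx n) : Cl F n := CliffordAlgebra.ι _ (DModel.ev a)

theorem ge_sq (a : SIdx n) : ge F a * ge F a = 0 := by
  rw [ge, CliffordAlgebra.ι_sq_scalar, DModel.Q_ev, map_zero]

theorem ge_anti {a b : SIdx n} (h : b ≠ ng a) : ge F a * ge F b = -(ge F b * ge F a) := by
  refine eq_neg_of_add_eq_zero_left ?_
  rw [ge, ge, CliffordAlgebra.ι_mul_ι_add_swap, DModel.B_ev, DModel.ev_apply,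
    if_neg (fun e => h e.symm), map_zero]

theorem ge_pair (a : SIdx n) : ge F a * ge F (ng a) + ge F (ng a) * ge F a = 1 := by
  rw [ge, ge, CliffordAlgebra.ι_mul_ι_add_swap, DModel.B_ev, DModel.ev_apply, if_pos rfl, map_one]

/-- The infinitesimal root element. -/
noncomputable def rN (a b : SIdx n) : Cl F n := ge F a * ge F (ng b)

theorem rN_sq {a b : SIdx n} (h : lv a ≠ lv b) : rN a b * rN (F := F) a b = 0 := by
  have e : ge F (ng b) * ge F a = -(ge F a * ge F (ng b)) :=
    ge_anti (fun e => (lv_ne.1 h).1 (by rw [e, ng_ng]))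
  rw [rN, mul_assoc, ← mul_assoc (ge F (ng b)), e, neg_mul, mul_neg, ← mul_assoc, ← mul_assoc, ge_sq, zero_mul,
    zero_mul, neg_zero]

theorem rN_symm {a b : SIdx n} (h : lv a ≠ lv b) : rN (ng b) (ng a) = -rN (F := F) a b := by
  rw [rN, rN, ng_ng]
  exact ge_anti (fun e => (lv_ne.1 h).1 (by rw [e, ng_ng]))

theorem rN_comm {a b c d : SIdx n} (had : a ≠ d) (hbc : b ≠ c) (hac : a ≠ ng c) (hbd : b ≠ ng d) :
    rN a b * rN c d = rN c d * rN (F := F) a b := by
  have h1 : ge F a * ge F c = -(ge F c * ge F a) := ge_anti (fun e => hac (by rw [e, ng_ng]))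
  have h2 : ge F a * ge F (ng d) = -(ge F (ng d) * ge F a) := ge_anti (fun e => had (ng_inj.1 e).symm)
  have h3 : ge F (ng b) * ge F c = -(ge F c * ge F (ng b)) := ge_anti (fun e => hbc (by rw [e, ng_ng]))
  have h4 : ge F (ng b) * ge F (ng d) = -(ge F (ng d) * ge F (ng b)) :=
    ge_anti (fun e => hbd (by rw [ng_ng] at e; exact e.symm))
  simp only [rN]
  calc ge F a * ge F (ng b) * (ge F c * ge F (ng d)) = ge F a * (ge F (ng b) * ge F c) * ge F (ng d) := by noncomm_ring
    _ = -(ge F a * ge F c * (ge F (ng b) * ge F (ng d))) := by rw [h3]; noncomm_ring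
    _ = -(ge F c * (ge F a * ge F (ng d)) * ge F (ng b)) := by rw [h1, h4]; noncomm_ring
    _ = ge F c * ge F (ng d) * (ge F a * ge F (ng b)) := by rw [h2]; noncomm_ring

theorem rN_comm2 {a b : SIdx n} (h : lv a ≠ lv b) :
    rN a b * rN a (ng b) = rN a (ng b) * rN (F := F) a b := by
  have e1 : ge F (ng b) * ge F a = -(ge F a * ge F (ng b)) :=
    ge_anti (fun e => (lv_ne.1 h).1 (by rw [e, ng_ng]))
  have e2 : ge F b * ge F a = -(ge F a * ge F b) := ge_anti (fun e => (lv_ne.1 h).2 e)
  simp only [rN, ng_ng]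
  rw [mul_assoc, ← mul_assoc (ge F (ng b)), e1, mul_assoc, ← mul_assoc (ge F b), e2]
  simp only [neg_mul, mul_neg, ← mul_assoc, ge_sq, zero_mul]

theorem rN_chain {a b c : SIdx n} (h1 : lv a ≠ lv b) (h2 : lv b ≠ lv c) (h3 : lv a ≠ lv c) :
    rN a b * rN b c = rN b c * rN a b + rN (F := F) a c ∧ rN a c * rN (F := F) b c = 0 ∧
      rN a c * rN (F := F) a b = 0 := by
  have m1 := lv_ne.1 h1
  have m2 := lv_ne.1 h2
  have m3 := lv_ne.1 h3
  have f1 : ge F a * ge F b = -(ge F b * ge F a) := ge_anti (fun e => m1.2 (by rw [e, ng_ng]))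
  have f2 : ge F (ng c) * ge F a = -(ge F a * ge F (ng c)) := ge_anti (fun e => m3.1 (by rw [e, ng_ng]))
  have f3 : ge F (ng c) * ge F (ng b) = -(ge F (ng b) * ge F (ng c)) :=
    ge_anti (fun e => m2.2 (by rw [ng_ng] at e; rw [← e, ng_ng]))
  have f4 : ge F (ng c) * ge F b = -(ge F b * ge F (ng c)) := ge_anti (fun e => m2.1 (by rw [e, ng_ng]))
  simp only [rN]
  refine ⟨?_, ?_, ?_⟩
  · calc ge F a * ge F (ng b) * (ge F b * ge F (ng c)) = ge F a * (ge F (ng b) * ge F b) * ge F (ng c) := by noncomm_ring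
      _ = ge F a * ge F (ng c) - ge F a * ge F b * (ge F (ng b) * ge F (ng c)) := by
        rw [show ge F (ng b) * ge F b = 1 - ge F b * ge F (ng b) from
          eq_sub_of_add_eq (by rw [add_comm, ge_pair])]
        noncomm_ring
      _ = ge F a * ge F (ng c) + ge F b * (ge F a * (ge F (ng b) * ge F (ng c))) := by rw [f1]; noncomm_ring
      _ = ge F a * ge F (ng c) - ge F b * (ge F a * (ge F (ng c) * ge F (ng b))) := by rw [f3]; noncomm_ring
      _ = ge F a * ge F (ng c) + ge F b * ge F (ng c) * (ge F a * ge F (ng b)) := by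
        rw [show ge F b * ge F (ng c) * (ge F a * ge F (ng b)) = ge F b * (ge F (ng c) * ge F a) * ge F (ng b) by noncomm_ring,
          f2]
        noncomm_ring
      _ = _ := add_comm _ _
  · rw [mul_assoc, ← mul_assoc (ge F (ng c)), f4, neg_mul, mul_neg, mul_assoc (ge F b), ge_sq, mul_zero, mul_zero,
      neg_zero]
  · rw [mul_assoc, ← mul_assoc (ge F (ng c)), f2, neg_mul, mul_neg, ← mul_assoc, ← mul_assoc, ge_sq, zero_mul,
      zero_mul, neg_zero]

/-- The root element in the Clifford algebra. -/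
noncomputable def xU (a b : SIdx n) (t : F) : (Cl F n)ˣ :=
  if h : lv a ≠ lv b then
    { val := 1 + t • rN a b
      inv := 1 - t • rN a b
      val_inv := by
        simp only [add_mul, mul_sub, mul_one, one_mul, smul_mul_assoc, mul_smul_comm, rN_sq h, smul_zero]
        abel
      inv_val := by
        simp only [sub_mul, mul_add, mul_one, one_mul, smul_mul_assoc, mul_smul_comm, rN_sq h, smul_zero]
        abel }
  else 1

theorem xU_val {a b : SIdx n} (h : lv a ≠ lv b) (t : F) : ((xU a b t : (Cl F n)ˣ) : Cl F n) = 1 + t • rN a b := by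
  rw [xU, dif_pos h]

/-- **The spin representation.** -/
noncomputable def spinRels : RelsD F n (Cl F n)ˣ where
  x := xU
  add a b h t u := Units.ext (by
    rw [Units.val_mul, xU_val h, xU_val h, xU_val h]
    simp only [add_smul, add_mul, mul_add, one_mul, mul_one, smul_mul_assoc, mul_smul_comm, rN_sq h, smul_zero]
    abel)
  symm a b h t := Units.ext (by
    rw [xU_val (by rw [lv_ng, lv_ng]; exact h.symm), xU_val h, rN_symm h, smul_neg, neg_smul])
  comm a b c d h h' h1 h2 h3 h4 t u := Units.ext (by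
    rw [Units.val_mul, Units.val_mul, xU_val h, xU_val h']
    simp only [add_mul, mul_add, one_mul, mul_one, smul_mul_assoc, mul_smul_comm, rN_comm h1 h2 h3 h4,
      smul_add, smul_smul, mul_comm u t]
    abel)
  comm2 a b h t u := Units.ext (by
    rw [Units.val_mul, Units.val_mul, xU_val h, xU_val (show lv a ≠ lv (ng b) by rwa [lv_ng])]
    simp only [add_mul, mul_add, one_mul, mul_one, smul_mul_assoc, mul_smul_comm, rN_comm2 h, smul_add, smul_smul, mul_comm u t]
    abel)
  chain a b c h1 h2 h3 t u := Units.ext (by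
    obtain ⟨e1, e2, e3⟩ := rN_chain (F := F) h1 h2 h3
    simp only [Units.val_mul, xU_val h1, xU_val h2, xU_val h3, add_mul, mul_add, one_mul, mul_one, smul_mul_assoc,
      mul_smul_comm, smul_add, smul_smul, e1, e2, e3, smul_zero, zero_mul, add_zero, mul_comm u t]
    abel)

theorem rN_idem {a b : SIdx n} (h : lv a ≠ lv b) : rN a b * rN b a * rN a b = rN (F := F) a b := by
  have m := lv_ne.1 h
  have f1 : ge F (ng a) * ge F (ng b) = -(ge F (ng b) * ge F (ng a)) :=
    ge_anti (fun e => m.2 (by rw [ng_ng] at e; exact e.symm))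
  have f2 : ge F b * ge F a = -(ge F a * ge F b) := ge_anti (fun e => m.2 e)
  have f3 : ge F (ng b) * ge F a = -(ge F a * ge F (ng b)) := ge_anti (fun e => m.1 (by rw [e, ng_ng]))
  have g1 : ge F a * ge F (ng a) * ge F a = ge F a := by
    rw [mul_assoc, show ge F (ng a) * ge F a = 1 - ge F a * ge F (ng a) from
      eq_sub_of_add_eq (by rw [add_comm, ge_pair]), mul_sub, mul_one, ← mul_assoc, ge_sq, zero_mul, sub_zero]
  have g2 : ge F (ng b) * ge F b * ge F (ng b) = ge F (ng b) := by
    rw [mul_assoc, show ge F b * ge F (ng b) = 1 - ge F (ng b) * ge F b from eq_sub_of_add_eq (ge_pair b), mul_sub,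
      mul_one, ← mul_assoc, ge_sq, zero_mul, sub_zero]
  have f4 : ge F (ng a) * ge F b = -(ge F b * ge F (ng a)) :=
    ge_anti (fun e => m.1 (by rw [ng_ng] at e; exact e.symm))
  simp only [rN]
  calc ge F a * ge F (ng b) * (ge F b * ge F (ng a)) * (ge F a * ge F (ng b))
      = ge F a * ge F (ng b) * (ge F b * ge F (ng a)) * -(ge F (ng b) * ge F a) := by rw [f3, neg_neg]
    _ = -(ge F a * ge F (ng b) * ge F b * (ge F (ng a) * ge F (ng b)) * ge F a) := by noncomm_ring
    _ = ge F a * (ge F (ng b) * ge F b * ge F (ng b)) * (ge F (ng a) * ge F a) := by rw [f1]; noncomm_ring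
    _ = ge F a * ge F (ng b) * (ge F (ng a) * ge F a) := by rw [g2]
    _ = ge F a * (ge F (ng b) * ge F (ng a)) * ge F a := by noncomm_ring
    _ = -(ge F a * ge F (ng a) * (ge F (ng b) * ge F a)) := by
      rw [show ge F (ng b) * ge F (ng a) = -(ge F (ng a) * ge F (ng b)) by rw [f1, neg_neg]]
      noncomm_ring
    _ = ge F a * ge F (ng a) * ge F a * ge F (ng b) := by rw [f3]; noncomm_ring
    _ = ge F a * ge F (ng b) := by rw [g1]

/-- The idempotent of a root. -/
noncomputable def rP (a b : SIdx n) : Cl F n := rN a b * rN b a + rN b a * rN a b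

theorem rP_add {a b : SIdx n} (h : lv a ≠ lv b) : rP a b + rP (F := F) a (ng b) = 1 := by
  have m := lv_ne.1 h
  have f1 : ge F (ng b) * ge F a = -(ge F a * ge F (ng b)) := ge_anti (fun e => m.1 (by rw [e, ng_ng]))
  have f2 : ge F b * ge F a = -(ge F a * ge F b) := ge_anti (fun e => m.2 e)
  have f3 : ge F (ng a) * ge F (ng b) = -(ge F (ng b) * ge F (ng a)) :=
    ge_anti (fun e => m.2 (by rw [ng_ng] at e; exact e.symm))
  have f4 : ge F (ng a) * ge F b = -(ge F b * ge F (ng a)) :=
    ge_anti (fun e => m.1 (by rw [ng_ng] at e; exact e.symm))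
  simp only [rP, rN, ng_ng]
  calc ge F a * ge F (ng b) * (ge F b * ge F (ng a)) + ge F b * ge F (ng a) * (ge F a * ge F (ng b)) +
        (ge F a * ge F b * (ge F (ng b) * ge F (ng a)) + ge F (ng b) * ge F (ng a) * (ge F a * ge F b))
      = ge F a * (ge F (ng b) * ge F b + ge F b * ge F (ng b)) * ge F (ng a) + (ge F b * ge F (ng a) * (ge F a * ge F (ng b)) +
          ge F (ng b) * ge F (ng a) * (ge F a * ge F b)) := by noncomm_ring
    _ = ge F a * ge F (ng a) + (ge F (ng a) * ge F b * (ge F (ng b) * ge F a) + ge F (ng a) * ge F (ng b) * (ge F b * ge F a)) := by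
      rw [show ge F (ng b) * ge F b + ge F b * ge F (ng b) = (1 : Cl F n) by rw [add_comm, ge_pair], mul_one, f1, f2, f3, f4]
      noncomm_ring
    _ = ge F a * ge F (ng a) + ge F (ng a) * (ge F b * ge F (ng b) + ge F (ng b) * ge F b) * ge F a := by noncomm_ring
    _ = 1 := by rw [ge_pair, mul_one, ge_pair]

variable [Finite F]

theorem spin_h_neg_one {a b : SIdx n} (h : lv a ≠ lv b) :
    ((liftD (spinRels (F := F) (n := n)) (OrthPlus.h a b (-1)) : (Cl F n)ˣ) : Cl F n) = 1 - 2 * rP a b := by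
  have e : liftD (spinRels (F := F) (n := n)) ((stRels F n).w a b (-1)) = (spinRels).w a b (-1) := by
    simp only [RelsD.w, map_mul, liftD_x _ h, liftD_x _ h.symm]
  have hN := rN_idem (F := F) h
  have hM := rN_idem (F := F) h.symm
  have n1 := rN_sq (F := F) h
  have n2 := rN_sq (F := F) h.symm
  set N := rN (F := F) a b
  set M := rN (F := F) b a
  have hw : (((spinRels (F := F)).w a b (-1) : (Cl F n)ˣ) : Cl F n) = 1 - (N * M + M * N) + (M - N) := by
    show ((xU a b (-1) * xU b a (-(-1 : F)⁻¹) * xU a b (-1) : (Cl F n)ˣ) : Cl F n) = _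
    rw [Units.val_mul, Units.val_mul, xU_val h, xU_val h.symm, inv_neg, inv_one, neg_neg, one_smul, neg_one_smul]
    calc (1 + -N) * (1 + M) * (1 + -N) = 1 - N - N + M - (N * M + M * N) + N * N + N * M * N := by noncomm_ring
      _ = _ := by rw [n1, hN]; abel
  rw [OrthPlus.h, map_mul, Units.val_neg, Units.val_one, e, Units.val_mul, hw, rP]
  calc (1 - (N * M + M * N) + (M - N)) * (1 - (N * M + M * N) + (M - N))
      = 1 - (N * M + M * N) - (N * M + M * N) + (N * M * N) * M + (M * N * M) * N + (M - N) + (M - N)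
        - (N * M * M) - (M * N * M) + (N * M * N) + M * N * N - (M * N * M) - M * M * N + N * N * M + N * M * N
        + N * (M * M) * N + M * (N * N) * M + M * M - (N * M) - (M * N) + N * N := by noncomm_ring
    _ = 1 - 2 * (N * M + M * N) := by
      rw [hN, hM, mul_assoc N M M, n2, mul_assoc M N N, n1]
      simp only [mul_zero, zero_mul, two_mul]
      abel

/-- The value of `z0` in the Clifford algebra. -/
theorem spin_z0 (hn : 3 ≤ n) :
    ((liftD (spinRels (F := F) (n := n)) (z0 hn) : (Cl F n)ˣ) : Cl F n) = -1 := by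
  have h01 : lv (Sum.inl (i0 hn) : SIdx n) ≠ lv (Sum.inl (i1 hn) : SIdx n) := i0_ne_i1 hn
  rw [z0, map_mul, Units.val_mul, spin_h_neg_one (b := Sum.inr (i1 hn)) h01, spin_h_neg_one h01]
  set P := rP (F := F) (Sum.inl (i0 hn)) (Sum.inl (i1 hn)) with hP
  have hq : rP (F := F) (Sum.inl (i0 hn)) (Sum.inr (i1 hn)) = 1 - P :=
    eq_sub_of_add_eq (by rw [add_comm]; exact rP_add h01)
  have hsq : (1 - 2 * P) * (1 - 2 * P) = 1 := by
    have e := congrArg (fun g => ((liftD (spinRels (F := F) (n := n)) g : (Cl F n)ˣ) : Cl F n))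
      ((h_mul (F := F) hn h01 (-1) (-1)).symm.trans (by rw [neg_one_mul, neg_neg, h_one hn h01]))
    simp only [map_mul, map_one, Units.val_mul, Units.val_one] at e
    rwa [spin_h_neg_one h01] at e
  rw [hq]
  calc (1 - 2 * (1 - P)) * (1 - 2 * P) = -((1 - 2 * P) * (1 - 2 * P)) := by noncomm_ring
    _ = -1 := by rw [hsq]

/-- **The element `z0` is non-trivial in odd characteristic.** -/
theorem z0_ne_one (hn : 3 ≤ n) (h2 : (2 : F) ≠ 0) : (z0 hn : StD F n) ≠ 1 := by
  intro hz
  have : Invertible (2 : F) := invertibleOfNonzero h2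
  have h := spin_z0 (F := F) hn
  rw [hz, map_one, Units.val_one] at h
  apply h2
  refine (algebraMap F (Cl F n)).injective ?_
  rw [map_ofNat, map_zero, ← one_add_one_eq_two, add_eq_zero_iff_eq_neg, ← h]

end Cfsg.Agent.Schur.OrthPlus
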