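import Cfsg.Agent.Lib.Schur.OrthPlus.Comm
import Cfsg.Agent.Lib.CurtisTits.DKernel
import Mathlib.GroupTheory.PresentedGroup

/-!
# The Steinberg group of type `D_n` over a finite field

It is finite, perfect, maps onto `Ω⁺(2n)` with central kernel, and has trivial Schur multiplier.
-/

set_option autoImplicit false

namespace Cfsg.Agent.Schur.OrthPlus

open CurtisTits CurtisTits.DType SL2Presentation
open scoped commutatorElement

universe u

/-- The generators. -/
abbrev Gen (F : Type u) (n : ℕ) : Type u := {ab : SIdx n × SIdx n // lv ab.1 ≠ lv ab.2} × F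

variable {F : Type u} [Field F] {n : ℕ}

/-- A root element as a word. -/
def xg (a b : SIdx n) (t : F) : FreeGroup (Gen F n) := if h : lv a ≠ lv b then FreeGroup.of (⟨(a, b), h⟩, t) else 1

/-- The relations. -/
inductive IsRel : FreeGroup (Gen F n) → Prop
  | add (a b : SIdx n) (h : lv a ≠ lv b) (t u : F) : IsRel (xg a b (t + u) * (xg a b t * xg a b u)⁻¹)
  | symm (a b : SIdx n) (h : lv a ≠ lv b) (t : F) : IsRel (xg (ng b) (ng a) t * (xg a b (-t))⁻¹)
  | comm (a b c d : SIdx n) (h : lv a ≠ lv b) (h' : lv c ≠ lv d) (h1 : a ≠ d) (h2 : b ≠ c) (h3 : a ≠ ng c)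
      (h4 : b ≠ ng d) (t u : F) : IsRel (xg a b t * xg c d u * (xg c d u * xg a b t)⁻¹)
  | comm2 (a b : SIdx n) (h : lv a ≠ lv b) (t u : F) :
      IsRel (xg a b t * xg a (ng b) u * (xg a (ng b) u * xg a b t)⁻¹)
  | chain (a b c : SIdx n) (h1 : lv a ≠ lv b) (h2 : lv b ≠ lv c) (h3 : lv a ≠ lv c) (t u : F) :
      IsRel (xg a b t * xg b c u * (xg a c (t * u) * xg b c u * xg a b t)⁻¹)

variable (F n)

/-- The Steinberg group of type `D_n`. -/
abbrev StD : Type u := PresentedGroup {w : FreeGroup (Gen F n) | IsRel w}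

/-- Its relations. -/
def stRels : RelsD F n (StD F n) where
  x a b t := PresentedGroup.mk _ (xg a b t)
  add a b h t u := by
    rw [← mul_inv_eq_one, ← map_mul, ← map_inv, ← map_mul]
    exact PresentedGroup.one_of_mem (IsRel.add a b h t u)
  symm a b h t := by
    rw [← mul_inv_eq_one, ← map_inv, ← map_mul]
    exact PresentedGroup.one_of_mem (IsRel.symm a b h t)
  comm a b c d h h' h1 h2 h3 h4 t u := by
    show _ = _
    rw [← mul_inv_eq_one, ← map_mul, ← map_mul, ← map_inv, ← map_mul]
    exact PresentedGroup.one_of_mem (IsRel.comm a b c d h h' h1 h2 h3 h4 t u)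
  comm2 a b h t u := by
    show _ = _
    rw [← mul_inv_eq_one, ← map_mul, ← map_mul, ← map_inv, ← map_mul]
    exact PresentedGroup.one_of_mem (IsRel.comm2 a b h t u)
  chain a b c h1 h2 h3 t u := by
    rw [← mul_inv_eq_one, ← map_mul, ← map_mul, ← map_mul, ← map_inv, ← map_mul]
    exact PresentedGroup.one_of_mem (IsRel.chain a b c h1 h2 h3 t u)

theorem closure_x : Subgroup.closure {g | ∃ a b, lv a ≠ lv b ∧ ∃ t : F, g = (stRels F n).x a b t} = ⊤ := by
  rw [eq_top_iff, ← PresentedGroup.closure_range_of, Subgroup.closure_le]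
  rintro _ ⟨⟨⟨⟨a, b⟩, h⟩, t⟩, rfl⟩
  refine Subgroup.subset_closure ⟨a, b, h, t, ?_⟩
  show _ = PresentedGroup.mk _ (xg a b t)
  rw [xg, dif_pos h]
  rfl

variable {F n}

theorem commutator_eq_top (hn : 3 ≤ n) : _root_.commutator (StD F n) = ⊤ := by
  rw [eq_top_iff, ← closure_x, Subgroup.closure_le]
  rintro _ ⟨a, b, h, t, rfl⟩
  obtain ⟨c, hac, hbc⟩ := RelsD.exists_third hn a b
  have e := (stRels F n).chain a c b hac hbc.symm h t 1
  rw [mul_one] at e
  rw [show (stRels F n).x a b t = ⁅(stRels F n).x a c t, (stRels F n).x c b 1⁆ by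
    rw [commutatorElement_def, e]; group]
  exact Subgroup.commutator_mem_commutator (Subgroup.mem_top _) (Subgroup.mem_top _)

section lift

variable {H : Type*} [Group H] (R : RelsD F n H)

theorem lift_xg {a b : SIdx n} (h : lv a ≠ lv b) (t : F) :
    FreeGroup.lift (fun g : Gen F n => R.x g.1.1.1 g.1.1.2 g.2) (xg a b t) = R.x a b t := by
  rw [xg, dif_pos h, FreeGroup.lift_apply_of]

/-- The homomorphism given by relations of type `D_n`. -/
def liftD : StD F n →* H :=
  PresentedGroup.toGroup (f := fun g : Gen F n => R.x g.1.1.1 g.1.1.2 g.2) fun r hr => by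
    have ng1 : ∀ {p q : SIdx n}, lv p ≠ lv q → lv (ng q) ≠ lv (ng p) := fun h => by
      rw [lv_ng, lv_ng]; exact h.symm
    cases hr with
    | add a b h t u => simp only [map_mul, map_inv, lift_xg R h, R.add a b h, mul_inv_cancel]
    | symm a b h t => simp only [map_mul, map_inv, lift_xg R h, lift_xg R (ng1 h), R.symm a b h, mul_inv_cancel]
    | comm a b c d h h' h1 h2 h3 h4 t u =>
      simp only [map_mul, map_inv, lift_xg R h, lift_xg R h', (R.comm a b c d h h' h1 h2 h3 h4 t u).eq,
        mul_inv_cancel]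
    | comm2 a b h t u =>
      simp only [map_mul, map_inv, lift_xg R h, lift_xg R (show lv a ≠ lv (ng b) by rwa [lv_ng]),
        (R.comm2 a b h t u).eq, mul_inv_cancel]
    | chain a b c h1 h2 h3 t u =>
      simp only [map_mul, map_inv, lift_xg R h1, lift_xg R h2, lift_xg R h3, R.chain a b c h1 h2 h3, mul_inv_cancel]

theorem liftD_x {a b : SIdx n} (h : lv a ≠ lv b) (t : F) : liftD R ((stRels F n).x a b t) = R.x a b t :=
  lift_xg R h t

end lift

variable (F n)

/-- The orthogonal representation. -/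
noncomputable def theta : StD F n →* GL (SIdx n) F := liftD (DModel.model F n)

/-- The cover. -/
noncomputable def cover : DCover F n (StD F n) where
  R := stRels F n
  θ := theta F n
  map_x _ _ h t := liftD_x (DModel.model F n) h t

variable {F n}

theorem theta_x {a b : SIdx n} (h : lv a ≠ lv b) (t : F) :
    theta F n ((stRels F n).x a b t) = DModel.E a b t := liftD_x (DModel.model F n) h t

theorem ker_theta_le (hn : 3 ≤ n) : (theta F n).ker ≤ Subgroup.center (StD F n) :=
  (cover F n).ker_le_center hn (closure_x F n)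

variable [Finite F]

theorem range_theta (hn : 3 ≤ n) : (theta F n).range = Cfsg.Geo.omegaGL ⇑(DModel.qf F n) := by
  refine le_antisymm ?_ (DModel.omega_le hn fun a b h t => ⟨_, theta_x h t⟩)
  rw [MonoidHom.range_eq_map, ← closure_x, MonoidHom.map_closure, Subgroup.closure_le]
  rintro _ ⟨_, ⟨a, b, h, t, rfl⟩, rfl⟩
  rw [SetLike.mem_coe, theta_x h]
  exact DModel.E_mem_omega hn a b t

theorem finite_StD (hn : 3 ≤ n) : Finite (StD F n) := by
  classical
  have := Fintype.ofFinite F
  let g : (theta F n).range × (theta F n).range → StD F n := fun p => ⁅p.1.2.choose, p.2.2.choose⁆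
  have hs : commutatorSet (StD F n) ⊆ Set.range g := by
    rintro _ ⟨x, y, rfl⟩
    refine ⟨(⟨_, x, rfl⟩, ⟨_, y, rfl⟩), ?_⟩
    exact commutator_congr (ker_theta_le hn)
      (⟨_, x, rfl⟩ : (theta F n).range).2.choose_spec (⟨_, y, rfl⟩ : (theta F n).range).2.choose_spec
  have : Finite (commutatorSet (StD F n)) := ((Set.finite_range g).subset hs).to_subtype
  have h : Finite (_root_.commutator (StD F n)) := inferInstance
  rw [commutator_eq_top hn] at h
  exact Finite.of_equiv _ Subgroup.topEquiv.toEquiv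

/-- **The Schur multiplier of the Steinberg group is trivial.** -/
theorem multiplier_StD (hn : 4 ≤ n) (hq : n = 4 → 3 ≤ Nat.card F) :
    Cfsg.HasCyclicSchurMultiplier (StD F n) 1 := by
  classical
  have := Fintype.ofFinite F
  have hfin := finite_StD (F := F) (n := n) (by omega)
  refine Schur.hasCyclicSchurMultiplier_one fun Γ _ _ σ hσ => ?_
  obtain ⟨hs, hz, hc⟩ := hσ
  let D : Setup F n (StD F n) Γ :=
    ⟨stRels F n, σ, hs, hz, hn, SLn.hasCyclicSchurMultiplier (by omega) (fun h => absurd h (by omega)) hq⟩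
  have hf : ∀ x, σ (liftD D.rels x) = x := by
    have e : σ.comp (liftD D.rels) = MonoidHom.id _ := by
      refine MonoidHom.eq_of_eqOn_dense (closure_x F n) ?_
      rintro _ ⟨a, b, h, t, rfl⟩
      rw [MonoidHom.comp_apply, liftD_x D.rels h]
      exact D.p_L h t
    exact fun x => DFunLike.congr_fun e x
  rw [Subgroup.eq_bot_iff_forall]
  intro γ hγ
  have hle : _root_.commutator Γ ≤ (liftD D.rels).range := by
    rw [commutator_def, Subgroup.commutator_le]
    rintro a - b -
    exact ⟨⁅σ a, σ b⁆, (map_commutatorElement _ _ _).trans (commutator_congr hz (hf _) (hf _))⟩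
  obtain ⟨x, rfl⟩ := hle (hc hγ)
  rw [MonoidHom.mem_ker, hf] at hγ
  rw [hγ, map_one]

end Cfsg.Agent.Schur.OrthPlus
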