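import Cfsg.Agent.Lib.Schur.OrthPlus.Steinberg
import Cfsg.Agent.Lib.Schur.SLn
import Mathlib.GroupTheory.NoncommPiCoprod

/-!
# The torus of the Steinberg group of type `D_n`

The frames are images of `SL_n`, so the elements `h a b s` are multiplicative and commute; they form
the image of a homomorphism `tau` of `(F^×)^n`.
-/

set_option autoImplicit false

namespace Cfsg.Agent.Schur.OrthPlus

open CurtisTits CurtisTits.DType SL2Presentation
open scoped commutatorElement

universe u

variable {F : Type u} [Field F] [Finite F] {n : ℕ}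

/-- The torus element of a root. -/
noncomputable def h (a b : SIdx n) (s : Fˣ) : StD F n := (stRels F n).w a b (s : F) * (stRels F n).w a b (-1)

/-- Diagonal entries of the torus of a root in `SL_n`. -/
def dd (i j : Fin n) (s : Fˣ) (k : Fin n) : F := if k = i then (s : F) else if k = j then (s : F)⁻¹ else 1

omit [Finite F] in
theorem prod_dd {i j : Fin n} (hij : i ≠ j) (s : Fˣ) : ∏ k, dd i j s k = 1 := by
  rw [← Finset.prod_subset (Finset.subset_univ {i, j})]
  · rw [Finset.prod_pair hij]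
    simp [dd, hij.symm]
  · intro k _ hk
    simp at hk
    simp [dd, hk.1, hk.2]

/-- The Weyl word in `SL_n`. -/
noncomputable def wm (i j : Fin n) (t : F) : Matrix.SpecialLinearGroup (Fin n) F :=
  SLn.el i j t * SLn.el j i (-t⁻¹) * SLn.el i j t

omit [Finite F] in
theorem wm_val {i j : Fin n} (hij : i ≠ j) {t : F} (ht : t ≠ 0) :
    ((wm i j t : Matrix.SpecialLinearGroup (Fin n) F) : Matrix (Fin n) (Fin n) F) =
      1 - Matrix.single i i 1 - Matrix.single j j 1 + Matrix.single i j t + Matrix.single j i (-t⁻¹) := by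
  simp only [wm, Matrix.SpecialLinearGroup.coe_mul, SLn.el_val hij, SLn.el_val hij.symm, mul_add, add_mul, one_mul,
    mul_one, Matrix.single_mul_single_same, Matrix.single_mul_single_of_ne _ _ _ _ hij,
    Matrix.single_mul_single_of_ne _ _ _ _ hij.symm, mul_neg, neg_mul, mul_inv_cancel₀ ht, inv_mul_cancel₀ ht,
    ← Matrix.single_neg, neg_zero, zero_mul, mul_zero, add_zero, zero_add]
  abel

omit [Finite F] in
theorem wm_wm {i j : Fin n} (hij : i ≠ j) (s : Fˣ) :
    wm i j (s : F) * wm i j (-1) = SLn.torus (dd i j s) (prod_dd hij s) := by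
  apply Subtype.ext
  show _ = Matrix.diagonal (dd i j s)
  rw [Matrix.SpecialLinearGroup.coe_mul, wm_val hij s.ne_zero, wm_val hij (neg_ne_zero.2 one_ne_zero)]
  ext p q
  simp only [inv_neg, inv_one, neg_neg, mul_add, add_mul, sub_mul, mul_sub, one_mul, mul_one,
    Matrix.single_mul_single_same, Matrix.single_mul_single_of_ne _ _ _ _ hij,
    Matrix.single_mul_single_of_ne _ _ _ _ hij.symm, add_zero, zero_add, sub_zero, zero_sub]
  simp only [Matrix.add_apply, Matrix.sub_apply, Matrix.neg_apply, Matrix.one_apply, Matrix.single_apply,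
    Matrix.diagonal_apply, dd, Matrix.zero_apply]
  by_cases hp : p = q
  · subst hp
    by_cases h1 : p = i
    · subst h1; simp [hij.symm]
    by_cases h2 : p = j
    · subst h2; simp [hij, hij.symm]
    simp [h1, h2, Ne.symm h1, Ne.symm h2]
  · have h1 : ¬ (i = p ∧ i = q) := fun e => hp (e.1.symm.trans e.2)
    have h2 : ¬ (j = p ∧ j = q) := fun e => hp (e.1.symm.trans e.2)
    simp [hp, h1, h2]

theorem exists_frame_hom (hn : 3 ≤ n) {f : Fin n → SIdx n} (hf : ∀ i, lv (f i) = i) :
    ∃ Ψ : Matrix.SpecialLinearGroup (Fin n) F →* StD F n,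
      (∀ i j, i ≠ j → ∀ t, Ψ (SLn.el i j t) = (stRels F n).x (f i) (f j) t) ∧
      ∀ i j, ∀ hij : i ≠ j, ∀ s, Ψ (SLn.torus (dd i j s) (prod_dd hij s)) = h (f i) (f j) s := by
  have hinj : Function.Injective (lv ∘ f) := fun i j e => by simpa [hf] using e
  obtain ⟨Ψ, hΨ⟩ := CurtisTits.exists_hom hn ((stRels F n).frame f hinj)
  have he : ∀ i j, i ≠ j → ∀ t, Ψ (SLn.el i j t) = (stRels F n).x (f i) (f j) t := fun i j hij t => by
    rw [SLn.el, dif_pos hij]
    exact hΨ i j hij t
  refine ⟨Ψ, he, fun i j hij s => ?_⟩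
  rw [← wm_wm hij]
  simp only [wm, map_mul, he _ _ hij, he _ _ hij.symm]
  rfl

omit [Finite F] in
theorem torus_congr {d e : Fin n → F} {hd : ∏ i, d i = 1} {he : ∏ i, e i = 1} (H : d = e) :
    SLn.torus d hd = SLn.torus e he := Subtype.ext (by simp [SLn.torus, H])

omit [Finite F] in
theorem torus_mul (d e : Fin n → F) (hd : ∏ i, d i = 1) (he : ∏ i, e i = 1) :
    SLn.torus d hd * SLn.torus e he =
      SLn.torus (fun i => d i * e i) (by rw [Finset.prod_mul_distrib, hd, he, one_mul]) :=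
  Subtype.ext (Matrix.diagonal_mul_diagonal _ _)

theorem exists_frame_pair (hn : 3 ≤ n) {T : List (SIdx n)} (hT : ∀ p ∈ T, ∀ q ∈ T, p ≠ ng q) :
    ∃ Ψ : Matrix.SpecialLinearGroup (Fin n) F →* StD F n,
      ∀ a ∈ T, ∀ b ∈ T, ∀ hab : lv a ≠ lv b, ∀ s,
        Ψ (SLn.torus (dd (lv a) (lv b) s) (prod_dd hab s)) = h a b s := by
  obtain ⟨Ψ, -, hΨ⟩ := exists_frame_hom (F := F) hn (lv_frameOf T)
  refine ⟨Ψ, fun a ha b hb hab s => ?_⟩
  rw [hΨ _ _ hab, frameOf_eq hT ha, frameOf_eq hT hb]

theorem consistent_two {a b : SIdx n} (hab : lv a ≠ lv b) : ∀ p ∈ [a, b], ∀ q ∈ [a, b], p ≠ ng q := by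
  intro p hp q hq e
  have hl : lv p = lv q := by rw [e, lv_ng]
  simp only [List.mem_cons, List.not_mem_nil, or_false] at hp hq
  rcases hp with rfl | rfl <;> rcases hq with rfl | rfl <;>
    first
    | exact ng_ne _ e.symm
    | exact hab hl
    | exact hab hl.symm

section

variable (hn : 3 ≤ n)
include hn

theorem h_mul {a b : SIdx n} (hab : lv a ≠ lv b) (s t : Fˣ) : h a b (s * t) = h a b s * h a b t := by
  obtain ⟨Ψ, hΨ⟩ := exists_frame_pair (F := F) hn (consistent_two hab)
  simp only [← hΨ a (by simp) b (by simp) hab, ← map_mul, torus_mul]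
  refine congrArg _ (torus_congr (funext fun k => ?_))
  simp only [dd]
  split_ifs <;> simp [mul_inv_rev, mul_comm]

theorem h_one {a b : SIdx n} (hab : lv a ≠ lv b) : h a b (1 : Fˣ) = (1 : StD F n) := by
  have := h_mul (F := F) hn hab 1 1
  rw [mul_one] at this
  exact left_eq_mul.1 this

theorem h_inv {a b : SIdx n} (hab : lv a ≠ lv b) (s : Fˣ) : h a b s⁻¹ = (h a b s)⁻¹ := by
  rw [eq_inv_iff_mul_eq_one, ← h_mul hn hab, inv_mul_cancel, h_one hn hab]

theorem h_flip {a b : SIdx n} (hab : lv a ≠ lv b) (s : Fˣ) : h b a s = (h a b s)⁻¹ := by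
  obtain ⟨Ψ, hΨ⟩ := exists_frame_pair (F := F) hn (consistent_two hab)
  rw [← h_inv hn hab, ← hΨ a (by simp) b (by simp) hab, ← hΨ b (by simp) a (by simp) hab.symm]
  refine congrArg _ (torus_congr (funext fun k => ?_))
  simp only [dd]
  split_ifs with h1 h2 <;> first | (subst h1; exact absurd h2 hab.symm) | simp

theorem h_tri {a b c : SIdx n} (h1 : lv a ≠ lv b) (h2 : lv b ≠ lv c) (h3 : lv a ≠ lv c) (s : Fˣ) :
    h a c s = h a b s * h b c s := by
  have hT : ∀ p ∈ [a, b, c], ∀ q ∈ [a, b, c], p ≠ ng q := by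
    intro p hp q hq e
    have hl : lv p = lv q := by rw [e, lv_ng]
    simp only [List.mem_cons, List.not_mem_nil, or_false] at hp hq
    rcases hp with rfl | rfl | rfl <;> rcases hq with rfl | rfl | rfl <;>
      first
      | exact ng_ne _ e.symm
      | exact h1 hl
      | exact h1 hl.symm
      | exact h2 hl
      | exact h2 hl.symm
      | exact h3 hl
      | exact h3 hl.symm
  obtain ⟨Ψ, hΨ⟩ := exists_frame_pair (F := F) hn hT
  rw [← hΨ a (by simp) c (by simp) h3, ← hΨ a (by simp) b (by simp) h1, ← hΨ b (by simp) c (by simp) h2,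
    ← map_mul, torus_mul]
  refine congrArg _ (torus_congr (funext fun k => ?_))
  simp only [dd]
  split_ifs <;> simp_all

omit hn in
theorem w_symm' {a b : SIdx n} (hab : lv a ≠ lv b) (t : F) :
    (stRels F n).w (ng b) (ng a) t = (stRels F n).w a b (-t) := (cover F n).w_symm hab t

theorem h_symm {a b : SIdx n} (hab : lv a ≠ lv b) (s : Fˣ) : h (ng b) (ng a) s = h a b s := by
  have e1 : h a b (-s) = (stRels F n).w a b (-(s : F)) * (stRels F n).w a b (-1) := by
    rw [h, Units.val_neg]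
  have e2 : h a b (-1) = (stRels F n).w a b (-1 : F) * (stRels F n).w a b (-1) := by
    rw [h, Units.val_neg, Units.val_one]
  rw [h, w_symm' hab, w_symm' hab, neg_neg]
  calc (stRels F n).w a b (-(s : F)) * (stRels F n).w a b 1
      = h a b (-s) * (h a b (-1))⁻¹ := by
        rw [e1, e2, (stRels F n).w_neg hab 1]; group
    _ = h a b s := by
        rw [← h_inv hn hab, ← h_mul hn hab]
        simp

/-! ### The action on the module -/

omit [Finite F] hn in
/-- The character of a torus element. -/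
def hc (a b : SIdx n) (s : Fˣ) (p : SIdx n) : F :=
  if p = a then (s : F) else if p = b then (s : F)⁻¹ else if p = ng a then (s : F)⁻¹ else if p = ng b then (s : F)
  else 1

omit [Finite F] hn in
theorem hc_mul {a b : SIdx n} (hab : lv a ≠ lv b) (s : Fˣ) (p : SIdx n) : hc a b s p * hc a b s (ng p) = 1 := by
  obtain ⟨n1, n2⟩ := lv_ne.1 hab
  have e1 : ng a ≠ b := fun e => n2 (by rw [← e, ng_ng])
  have e2 : ng b ≠ a := fun e => n2 e.symm
  have e3 : ng b ≠ ng a := fun e => n1 (ng_inj.1 e).symm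
  simp only [hc]
  by_cases h1 : p = a
  · subst h1
    rw [if_pos rfl, if_neg (ng_ne _), if_neg e1, if_pos rfl, mul_inv_cancel₀ s.ne_zero]
  by_cases h2 : p = b
  · subst h2
    rw [if_neg h1, if_pos rfl, if_neg e2, if_neg (ng_ne _), if_neg e3, if_pos rfl, inv_mul_cancel₀ s.ne_zero]
  by_cases h3 : p = ng a
  · subst h3
    rw [if_neg h1, if_neg h2, if_pos rfl, ng_ng, if_pos rfl, inv_mul_cancel₀ s.ne_zero]
  by_cases h4 : p = ng b
  · subst h4
    rw [if_neg h1, if_neg h2, if_neg h3, if_pos rfl, ng_ng, if_neg (Ne.symm n1), if_pos rfl,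
      mul_inv_cancel₀ s.ne_zero]
  have f1 : ng p ≠ a := fun e => h3 (by rw [← e, ng_ng])
  have f2 : ng p ≠ b := fun e => h4 (by rw [← e, ng_ng])
  rw [if_neg h1, if_neg h2, if_neg h3, if_neg h4, if_neg f1, if_neg f2, if_neg fun e => h1 (ng_inj.1 e),
    if_neg fun e => h2 (ng_inj.1 e), one_mul]

omit hn in
theorem mono_h {a b : SIdx n} (hab : lv a ≠ lv b) (s : Fˣ) :
    DModel.Mono (theta F n (h a b s)) 1 (hc a b s) := by
  have hm := (DModel.mono_w (F := F) hab s.ne_zero).mul (DModel.mono_w hab (neg_ne_zero.2 one_ne_zero))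
  intro x p
  have key := hm x p
  rw [Equiv.Perm.mul_apply, sw_sw hab] at key
  rw [Equiv.Perm.one_apply, h, map_mul, show theta F n ((stRels F n).w a b (s : F)) = (DModel.model F n).w a b s from
    (cover F n).map_w hab _, show theta F n ((stRels F n).w a b (-1)) = (DModel.model F n).w a b (-1) from
    (cover F n).map_w hab _, key]
  congr 1
  obtain ⟨n1, n2⟩ := lv_ne.1 hab
  have e1 : ng a ≠ b := fun e => n2 (by rw [← e, ng_ng])
  have e2 : ng b ≠ a := fun e => n2 e.symm
  have e3 : ng b ≠ ng a := fun e => n1 (ng_inj.1 e).symm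
  simp only [DModel.wc, hc]
  by_cases h1 : p = a
  · subst h1
    rw [sw_left hab, if_neg (Ne.symm n1), if_pos rfl, if_pos rfl, if_pos rfl]
    simp
  by_cases h2 : p = b
  · subst h2
    rw [sw_right hab, if_pos rfl, if_neg h1, if_pos rfl, if_neg h1, if_pos rfl]
    simp
  by_cases h3 : p = ng a
  · subst h3
    rw [sw_ng hab, sw_left hab, if_neg e2, if_neg (ng_ne _), if_neg e3, if_pos rfl, if_neg h1, if_neg h2, if_pos rfl,
      if_neg h1, if_neg h2, if_pos rfl]
    simp
  by_cases h4 : p = ng b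
  · subst h4
    rw [sw_ng hab, sw_right hab, if_neg (ng_ne _), if_neg e1, if_pos rfl, if_neg h1, if_neg h2, if_neg h3, if_pos rfl,
      if_neg h1, if_neg h2, if_neg h3, if_pos rfl]
    simp
  rw [sw_apply_of_ne (lv_ne.2 ⟨h1, h3⟩) (lv_ne.2 ⟨h2, h4⟩), if_neg h1, if_neg h2, if_neg h3, if_neg h4, if_neg h1,
    if_neg h2, if_neg h3, if_neg h4, if_neg h1, if_neg h2, if_neg h3, if_neg h4, one_mul]

/-- Diagonal elements scale the root elements. -/
theorem conj_x {g : StD F n} {c : SIdx n → F} (hg : DModel.Mono (theta F n g) 1 c)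
    (hcc : ∀ p, c p * c (ng p) = 1) {a b : SIdx n} (hab : lv a ≠ lv b) (t : F) :
    g * (stRels F n).x a b t * g⁻¹ = (stRels F n).x a b (c a / c b * t) := by
  obtain ⟨r, har, hbr⟩ := RelsD.exists_third hn a b
  have key : ∀ {p q : SIdx n}, lv p ≠ lv q → ∀ u, theta F n (g * (stRels F n).x p q u * g⁻¹) =
      theta F n ((stRels F n).x p q (c p / c q * u)) := fun {p q} hpq u => by
    rw [map_mul, map_mul, map_inv, theta_x hpq, theta_x hpq, hg.conj (fun _ => rfl) hcc hpq]
    rfl
  have hx : ∀ t u : F, (stRels F n).x a b (t * u) = ⁅(stRels F n).x a r t, (stRels F n).x r b u⁆ := fun t u => by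
    rw [commutatorElement_def, (stRels F n).chain a r b har hbr.symm hab]
    group
  have hr0 : c r ≠ 0 := left_ne_zero_of_mul (by rw [hcc r]; exact one_ne_zero)
  rw [show c a / c b * t = c a / c r * t * (c r / c b * 1) by field_simp]
  nth_rewrite 1 [← mul_one t]
  rw [hx, hx, conjugate_commutatorElement]
  exact commutator_congr (ker_theta_le hn) (key har t) (key hbr.symm 1)

theorem h_comm_diag {g : StD F n} {c : SIdx n → F} (hg : DModel.Mono (theta F n g) 1 c)
    (hcc : ∀ p, c p * c (ng p) = 1) {a b : SIdx n} (hab : lv a ≠ lv b) (s : Fˣ) : Commute g (h a b s) := by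
  have ha0 : c a ≠ 0 := left_ne_zero_of_mul (by rw [hcc a]; exact one_ne_zero)
  have hb0 : c b ≠ 0 := left_ne_zero_of_mul (by rw [hcc b]; exact one_ne_zero)
  obtain ⟨l, hl⟩ : ∃ l : Fˣ, (l : F) = c a / c b := ⟨Units.mk0 _ (div_ne_zero ha0 hb0), rfl⟩
  have hw : ∀ t : F, g * (stRels F n).w a b t * g⁻¹ = (stRels F n).w a b ((l : F) * t) := fun t => by
    simp only [RelsD.w, ← conj_mul, conj_x hn hg hcc hab, conj_x hn hg hcc hab.symm, hl]
    congr 3
    field_simp
  have e : g * h a b s * g⁻¹ = h a b s := by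
    rw [h, ← conj_mul, hw, hw]
    calc (stRels F n).w a b ((l : F) * s) * (stRels F n).w a b ((l : F) * -1)
        = h a b (l * s) * (h a b l)⁻¹ := by
          rw [mul_neg, mul_one, h, h, Units.val_mul, (stRels F n).w_neg hab (l : F)]; group
      _ = h a b s := by rw [← h_inv hn hab, ← h_mul hn hab]; congr 1; simp [mul_comm]
  exact mul_inv_eq_iff_eq_mul.1 e

theorem h_comm {a b c d : SIdx n} (hab : lv a ≠ lv b) (hcd : lv c ≠ lv d) (s t : Fˣ) :
    Commute (h a b s) (h c d t : StD F n) := h_comm_diag hn (mono_h hab s) (hc_mul hab s) hcd t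

/-- The torus element of a root as a homomorphism. -/
noncomputable def hHom {a b : SIdx n} (hab : lv a ≠ lv b) : Fˣ →* StD F n where
  toFun := h a b
  map_one' := h_one hn hab
  map_mul' := h_mul hn hab

end

section

omit [Finite F]

/-- The first index. -/
def i0 (hn : 3 ≤ n) : Fin n := ⟨0, by omega⟩

/-- The second index. -/
def i1 (hn : 3 ≤ n) : Fin n := ⟨1, by omega⟩

theorem i0_ne_i1 (hn : 3 ≤ n) : i0 hn ≠ i1 hn := by simp [i0, i1, Fin.ext_iff]

/-- The second index of the `i`-th root. -/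
def rb (hn : 3 ≤ n) (i : Fin n) : SIdx n := if i = i0 hn then .inr (i1 hn) else .inl i

theorem rb_ne (hn : 3 ≤ n) (i : Fin n) : lv (Sum.inl (i0 hn) : SIdx n) ≠ lv (rb hn i) := by
  unfold rb
  split_ifs with h
  · exact i0_ne_i1 hn
  · exact Ne.symm h

end

/-- **The torus.** -/
noncomputable def tau (hn : 3 ≤ n) : (Fin n → Fˣ) →* StD F n :=
  MonoidHom.noncommPiCoprod (fun i => hHom hn (rb_ne hn i))
    fun i j _ s t => h_comm hn (rb_ne hn i) (rb_ne hn j) s t

theorem tau_single (hn : 3 ≤ n) (i : Fin n) (s : Fˣ) :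
    tau (F := F) hn (Pi.mulSingle i s) = h (Sum.inl (i0 hn)) (rb hn i) s := by
  exact MonoidHom.noncommPiCoprod_mulSingle (N := fun _ : Fin n => Fˣ) _ i s

theorem h_mem_range (hn : 3 ≤ n) {a b : SIdx n} (hab : lv a ≠ lv b) (s : Fˣ) : h a b s ∈ (tau (F := F) hn).range := by
  have base : ∀ i, i ≠ i0 hn → ∀ s, h (Sum.inl (i0 hn)) (Sum.inl i) s ∈ (tau (F := F) hn).range := fun i hi s =>
    ⟨Pi.mulSingle i s, by rw [tau_single, rb, if_neg hi]⟩
  have base' : ∀ s, h (Sum.inl (i0 hn)) (Sum.inr (i1 hn)) s ∈ (tau (F := F) hn).range := fun s =>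
    ⟨Pi.mulSingle (i0 hn) s, by rw [tau_single, rb, if_pos rfl]⟩
  have pp : ∀ i j : Fin n, i ≠ j → ∀ s, h (Sum.inl i) (Sum.inl j) s ∈ (tau (F := F) hn).range := by
    intro i j hij s
    by_cases hi : i = i0 hn
    · subst hi; exact base j hij.symm s
    by_cases hj : j = i0 hn
    · subst hj
      rw [h_flip hn (a := Sum.inl (i0 hn)) (b := Sum.inl i) (Ne.symm hi)]
      exact inv_mem (base i hi s)
    rw [h_tri hn (b := Sum.inl (i0 hn)) (a := Sum.inl i) (c := Sum.inl j) hi (Ne.symm hj) hij,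
      h_flip hn (a := Sum.inl (i0 hn)) (b := Sum.inl i) (Ne.symm hi)]
    exact mul_mem (inv_mem (base i hi s)) (base j hj s)
  let Q : Fin n → Fin n → Prop := fun i j => ∀ s, h (Sum.inl i) (Sum.inr j) s ∈ (tau (F := F) hn).range
  have qsymm : ∀ i j, i ≠ j → Q i j → Q j i := fun i j hij H s => by
    have := h_symm (F := F) hn (a := Sum.inl i) (b := Sum.inr j) hij s
    simp only [ng, Sum.swap_inr, Sum.swap_inl] at this
    rw [this]; exact H s
  have qmove : ∀ i l j, i ≠ j → l ≠ j → Q i j → Q l j := fun i l j hij hlj H s => by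
    rcases eq_or_ne l i with rfl | hli
    · exact H s
    rw [h_tri hn (b := Sum.inl i) (a := Sum.inl l) (c := Sum.inr j) hli hij hlj]
    exact mul_mem (pp l i hli s) (H s)
  have q1 : ∀ i, i ≠ i1 hn → Q i (i1 hn) := fun i hi => qmove _ i _ (i0_ne_i1 hn) hi base'
  have pm : ∀ i j, i ≠ j → Q i j := by
    intro i j hij
    by_cases hj : j = i1 hn
    · subst hj; exact q1 i hij
    · exact qmove _ i _ (Ne.symm hj) hij (qsymm _ _ hj (q1 j hj))
  rcases a with i | i <;> rcases b with j | j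
  · exact pp i j hab s
  · exact pm i j hab s
  · rw [h_flip hn (a := Sum.inl j) (b := Sum.inr i) (Ne.symm hab)]
    exact inv_mem (pm j i (Ne.symm hab) s)
  · have := h_symm (F := F) hn (a := Sum.inl j) (b := Sum.inl i) (Ne.symm hab) s
    simp only [ng, Sum.swap_inl] at this
    rw [this]
    exact pp j i (Ne.symm hab) s

/-- The characters of the torus on the positive indices. -/
def cpos (hn : 3 ≤ n) (v : Fin n → Fˣ) (i : Fin n) : Fˣ :=
  if i = i0 hn then ∏ k, v k else (v i)⁻¹ * if i = i1 hn then v (i0 hn) else 1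

/-- The characters of the torus. -/
def cv (hn : 3 ≤ n) (v : Fin n → Fˣ) : SIdx n → F :=
  Sum.elim (fun i => (cpos hn v i : F)) fun i => ((cpos hn v i)⁻¹ : Fˣ)

omit [Finite F] in
theorem cv_mul_self (hn : 3 ≤ n) (v : Fin n → Fˣ) (p : SIdx n) : cv hn v p * cv hn v (ng p) = 1 := by
  rcases p with i | i <;> simp [cv, ng]

omit [Finite F] in
theorem cpos_mul (hn : 3 ≤ n) (v w : Fin n → Fˣ) (i : Fin n) :
    cpos hn (v * w) i = cpos hn v i * cpos hn w i := by
  unfold cpos
  split_ifs <;> simp [Finset.prod_mul_distrib, mul_inv_rev, mul_comm, mul_left_comm, mul_assoc]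

theorem mono_tau (hn : 3 ≤ n) (v : Fin n → Fˣ) : DModel.Mono (theta F n (tau hn v)) 1 (cv hn v) := by
  let P : (Fin n → Fˣ) → Prop := fun v => DModel.Mono (theta F n (tau hn v)) 1 (cv hn v)
  have hone : P 1 := fun x p => by
    rcases p with i | i <;> simp [cv, cpos, MaxCl.act_one]
  have hmul : ∀ v w, P v → P w → P (v * w) := fun v w hv hw x p => by
    have := (hv.mul hw) x p
    simp only [Equiv.Perm.mul_apply, Equiv.Perm.one_apply] at this
    rw [map_mul, map_mul, Equiv.Perm.one_apply, this]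
    rcases p with i | i <;> simp [cv, cpos_mul hn v w, mul_comm]
  have hsingle : ∀ i s, P (Pi.mulSingle i s) := fun i s x p => by
    rw [tau_single, mono_h (rb_ne hn i) s x p]
    congr 1
    have h01 := i0_ne_i1 hn
    have hprod : ∀ k : Fin n, ∏ m, (Pi.mulSingle k s : Fin n → Fˣ) m = s := fun k => by
      rw [Finset.prod_eq_single k (fun b _ hb => by simp [hb]) (by simp), Pi.mulSingle_eq_same]
    by_cases hi : i = i0 hn
    · subst hi
      rcases p with k | k <;> by_cases k0 : k = i0 hn <;> by_cases k1 : k = i1 hn <;>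
        simp_all [cv, cpos, hc, rb, ng, Ne.symm]
    · rcases p with k | k <;> by_cases k0 : k = i0 hn <;> by_cases ki : k = i <;> by_cases k1 : k = i1 hn <;>
        simp_all [cv, cpos, hc, rb, ng, Ne.symm]
  show P v
  rw [← Finset.univ_prod_mulSingle v]
  exact Finset.prod_induction _ P hmul hone fun i _ => hsingle i (v i)

end Cfsg.Agent.Schur.OrthPlus
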